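import Groth.Agent.QCohMod.Pullback
import Groth.Agent.FlatMorOne.LocalCriterion
import Groth.Prelude.Def_FlatMod2
import Groth.Agent.QCohMod.SupportPullback
import Groth.Agent.QCohMod.PullbackQCoh
import Mathlib.AlgebraicGeometry.Morphisms.Preimmersion
import Mathlib.AlgebraicGeometry.Stalk
import Mathlib.AlgebraicGeometry.ResidueField
import Mathlib.FieldTheory.Separable

/-!
Stalks of the base change to a quotient of the local ring of the base, and the adic criterion.
-/

set_option autoImplicit false
set_option backward.isDefEq.respectTransparency.types false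
set_option linter.style.haveILetI false
universe u

open CategoryTheory Limits AlgebraicGeometry TensorProduct

namespace Groth.EGA43Art.Adic

variable {X Y : Scheme.{u}}

/-- Flatness at a point over a quotient of the local ring of the base. -/
theorem flat_quotient (f : X ⟶ Y) {R : CommRingCat.{u}} [IsLocalRing R] (h : Spec R ⟶ Y)
    [IsPreimmersion h] (F : X.Modules) [F.IsQuasicoherent] (x : X) (z : ↥(pullback f h))
    (hz : pullback.fst f h z = x) (π : Y.presheaf.stalk (f x) ⟶ R)
    (hπ : Function.Surjective π.hom) (hh : h = Spec.map π ≫ Y.fromSpecStalk (f x))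
    (hflat : FlatMod.IsFlatOverAt (pullback.snd f h)
      ((Scheme.Modules.pullback (pullback.fst f h)).obj F) z) :
    letI := π.hom.toAlgebra
    letI := FlatMod.moduleStalkOver f F x
    Module.Flat R (R ⊗[Y.presheaf.stalk (f x)] F.presheaf.stalk x) := by
  subst hz
  let pr := pullback.fst f h
  let fR := pullback.snd f h
  let φ := f.stalkMap (pr z)
  let σ := pr.stalkMap z
  let L : CommRingCat := X.presheaf.stalk (pr z)
  let O : CommRingCat := Y.presheaf.stalk (f (pr z))
  let t := fR z
  let ρ : R ⟶ (pullback f h).presheaf.stalk z :=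
    ((Scheme.ΓSpecIso R).inv ≫ (Spec R).presheaf.germ ⊤ t trivial) ≫ fR.stalkMap z
  have hh' : ∀ {Z : Scheme.{u}} (g : Z ⟶ Spec R),
      g ≫ h = g ≫ Spec.map π ≫ Y.fromSpecStalk (f (pr z)) := fun g => congrArg (g ≫ ·) hh
  have hρ : π ≫ ρ = φ ≫ σ := by
    apply Spec.map_injective
    apply (cancel_mono (Y.fromSpecStalk (f (pr z)))).1
    simp only [Spec.map_comp, Category.assoc, ρ, φ, σ]
    rw [Scheme.SpecMap_stalkMap_fromSpecStalk, Scheme.SpecMap_stalkMap_fromSpecStalk_assoc,
      ← hh', ← Category.assoc (Spec.map _) (Spec.map _) h, ← Spec.map_comp,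
      ← Spec.fromSpecStalk_eq, Scheme.SpecMap_stalkMap_fromSpecStalk_assoc, pullback.condition]
  -- the lift through the quotient of the local ring of the source
  let J : Ideal L := (RingHom.ker π.hom).map φ.hom
  have hJ : J ≠ ⊤ := by
    refine ne_top_of_le_ne_top (IsLocalRing.maximalIdeal.isMaximal L).ne_top
      (Ideal.map_le_iff_le_comap.2 fun a ha hu => ?_)
    have : IsUnit (π.hom a) := (isUnit_of_map_unit φ.hom a hu).map π.hom
    rw [RingHom.mem_ker.1 ha] at this
    exact not_isUnit_zero this
  have : Nontrivial (L ⧸ J) := Ideal.Quotient.nontrivial_iff.2 hJ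
  have : IsLocalRing (L ⧸ J) := .of_surjective' _ Ideal.Quotient.mk_surjective
  let B : CommRingCat.{u} := CommRingCat.of (L ⧸ J)
  let q : L ⟶ B := CommRingCat.ofHom (Ideal.Quotient.mk J)
  have : IsLocalHom q.hom := .of_surjective _ Ideal.Quotient.mk_surjective
  have hker : RingHom.ker π.hom ≤ RingHom.ker ((φ ≫ q).hom) := fun a ha =>
    Ideal.Quotient.eq_zero_iff_mem.2 (Ideal.mem_map_of_mem _ ha)
  let π' : R ⟶ B := CommRingCat.ofHom (π.hom.liftOfSurjective hπ ⟨(φ ≫ q).hom, hker⟩)
  have hπ' : π ≫ π' = φ ≫ q :=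
    CommRingCat.hom_ext (RingHom.liftOfSurjective_comp π.hom hπ ⟨(φ ≫ q).hom, hker⟩)
  let ψ : Spec B ⟶ pullback f h :=
    pullback.lift (Spec.map q ≫ X.fromSpecStalk (pr z)) (Spec.map π') (by
      rw [Category.assoc, ← Scheme.SpecMap_stalkMap_fromSpecStalk, hh', ← Spec.map_comp_assoc,
        ← Spec.map_comp_assoc, hπ'])
  have hψ : ψ ≫ pr = Spec.map q ≫ X.fromSpecStalk (pr z) := pullback.lift_fst ..
  have hzψ : z = ψ (IsLocalRing.closedPoint B) := by
    refine pr.isEmbedding.injective ?_
    refine Eq.trans ?_ (congrArg (fun g : Spec B ⟶ X => g (IsLocalRing.closedPoint B)) hψ).symm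
    show pr z = X.fromSpecStalk (pr z) ((Spec.map q) (IsLocalRing.closedPoint B))
    rw [Spec_closedPoint]
    exact Scheme.fromSpecStalk_closedPoint.symm
  obtain ⟨τ, hτ⟩ : ∃ τ : (pullback f h).presheaf.stalk z ⟶ B, σ ≫ τ = q := by
    have e0 := Scheme.Spec_stalkClosedPointTo_fromSpecStalk ψ
    have : ∀ (w : ↥(pullback f h)) (_ : w = ψ (IsLocalRing.closedPoint B)),
        ∃ τ : (pullback f h).presheaf.stalk w ⟶ B,
          Spec.map τ ≫ (pullback f h).fromSpecStalk w = ψ := by
      rintro _ rfl
      exact ⟨_, e0⟩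
    obtain ⟨τ, hτ⟩ := this z hzψ
    refine ⟨τ, Spec.map_injective ?_⟩
    rw [← cancel_mono (X.fromSpecStalk (pr z)), Spec.map_comp, Category.assoc,
      Scheme.SpecMap_stalkMap_fromSpecStalk, reassoc_of% hτ, hψ]
  have hσ : Function.Surjective σ.hom := pr.stalkMap_surjective z
  letI := π.hom.toAlgebra
  letI := φ.hom.toAlgebra
  letI := Groth.QCohMod.stalkAlg pr z
  letI := FlatMod.moduleStalkOver f F (pr z)
  letI : Algebra R ((pullback f h).presheaf.stalk z) := ρ.hom.toAlgebra
  letI : Algebra O ((pullback f h).presheaf.stalk z) := (φ ≫ σ).hom.toAlgebra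
  haveI : IsScalarTower O L ((pullback f h).presheaf.stalk z) := .of_algebraMap_eq fun _ => rfl
  haveI : IsScalarTower O R ((pullback f h).presheaf.stalk z) :=
    .of_algebraMap_eq fun a => (congrArg (fun ξ => ξ.hom a) hρ).symm
  haveI : IsScalarTower O L (F.presheaf.stalk (pr z)) := .of_algebraMap_smul fun _ _ => rfl
  -- flatness of the stalk of the pullback over `R`
  let P : (pullback f h).Modules := (Scheme.Modules.pullback pr).obj F
  letI : Algebra R ((Spec R).presheaf.stalk t) := (StructureSheaf.toStalk R t).hom.toAlgebra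
  haveI : IsLocalization.AtPrime ((Spec R).presheaf.stalk t) t.asIdeal :=
    inferInstanceAs (IsLocalization.AtPrime ((Spec.structureSheaf R).presheaf.stalk t) t.asIdeal)
  haveI : Module.Flat R ((Spec R).presheaf.stalk t) := IsLocalization.flat _ t.asIdeal.primeCompl
  letI := FlatMod.moduleStalkOver fR P z
  letI : Module R (P.presheaf.stalk z) := Module.compHom _ ρ.hom
  haveI : IsScalarTower R ((pullback f h).presheaf.stalk z) (P.presheaf.stalk z) :=
    .of_algebraMap_smul fun _ _ => rfl
  haveI : IsScalarTower R ((Spec R).presheaf.stalk t) (P.presheaf.stalk z) :=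
    .of_algebraMap_smul fun _ _ => rfl
  haveI : Module.Flat ((Spec R).presheaf.stalk t) (P.presheaf.stalk z) := hflat
  have hN : Module.Flat R (P.presheaf.stalk z) :=
    Module.Flat.trans R ((Spec R).presheaf.stalk t) (P.presheaf.stalk z)
  let S := (pullback f h).presheaf.stalk z
  let M := F.presheaf.stalk (pr z)
  haveI : Module.Flat R (S ⊗[L] M) :=
    Module.Flat.of_linearEquiv ((Groth.QCohMod.pullStalkEquiv pr F z).restrictScalars R)
  let e : R ⊗[O] M →ₗ[R] S ⊗[L] M :=
    LinearMap.liftBaseChange R ((TensorProduct.mk L S M 1).restrictScalars O)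
  have he : ∀ (r : R) (m : M), e (r ⊗ₜ m) = r • ((1 : S) ⊗ₜ[L] m) := fun r m =>
    LinearMap.liftBaseChange_tmul _ _ _ _
  have hone : ∀ w : R ⊗[O] M, ∃ m : M, w = 1 ⊗ₜ m := by
    intro w
    induction w using TensorProduct.induction_on with
    | zero => exact ⟨0, (tmul_zero ..).symm⟩
    | tmul r m =>
      obtain ⟨a, rfl⟩ := hπ r
      refine ⟨a • m, ?_⟩
      rw [tmul_smul, TensorProduct.smul_tmul']
      congr 1
      rw [Algebra.smul_def, mul_one]
      rfl
    | add w₁ w₂ h₁ h₂ =>
      obtain ⟨m₁, rfl⟩ := h₁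
      obtain ⟨m₂, rfl⟩ := h₂
      exact ⟨m₁ + m₂, (tmul_add ..).symm⟩
  have hsur : Function.Surjective e := by
    intro w
    induction w using TensorProduct.induction_on with
    | zero => exact ⟨0, map_zero e⟩
    | tmul s m =>
      obtain ⟨l, rfl⟩ := hσ s
      refine ⟨1 ⊗ₜ (l • m), ?_⟩
      rw [he, one_smul, tmul_smul, TensorProduct.smul_tmul', Algebra.smul_def, mul_one]
      rfl
    | add w₁ w₂ h₁ h₂ =>
      obtain ⟨a, rfl⟩ := h₁
      obtain ⟨b, rfl⟩ := h₂
      exact ⟨a + b, map_add e a b⟩
  have hinj : Function.Injective e := by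
    rw [injective_iff_map_eq_zero]
    intro w hw
    obtain ⟨m, rfl⟩ := hone w
    rw [he, one_smul] at hw
    let τ' : S →ₗ[L] L ⧸ J :=
      { toFun := τ.hom
        map_add' := map_add τ.hom
        map_smul' := fun l s => by
          show τ.hom (σ.hom l * s) = Ideal.Quotient.mk J l * τ.hom s
          rw [map_mul]
          exact congrArg (· * τ.hom s) (congrArg (fun ξ => ξ.hom l) hτ) }
    have h0 : (Ideal.Quotient.mk J (1 : L)) ⊗ₜ[L] m = (0 : (L ⧸ J) ⊗[L] M) := by
      have := congrArg (LinearMap.rTensor M τ') hw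
      rw [LinearMap.rTensor_tmul, map_zero] at this
      rwa [show τ' 1 = Ideal.Quotient.mk J (1 : L) from (map_one τ.hom).trans (map_one _).symm]
        at this
    have hm : m ∈ J • (⊤ : Submodule L M) := by
      have := congrArg (TensorProduct.quotTensorEquivQuotSMul M J) h0
      rw [TensorProduct.quotTensorEquivQuotSMul_mk_tmul, one_smul, map_zero] at this
      exact (Submodule.Quotient.mk_eq_zero _).1 this
    have hkill : ∀ b ∈ J, ∀ v : M, (1 : R) ⊗ₜ[O] (b • v) = 0 := by
      intro b hb
      induction hb using Submodule.span_induction with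
      | mem b hb =>
        obtain ⟨a, ha, rfl⟩ := hb
        intro v
        rw [show φ.hom a • v = a • v from rfl, tmul_smul, TensorProduct.smul_tmul',
          Algebra.smul_def, mul_one, show algebraMap O R a = 0 from RingHom.mem_ker.1 ha, zero_tmul]
      | zero => intro v; rw [zero_smul, tmul_zero]
      | add a b _ _ ha hb => intro v; rw [add_smul, tmul_add, ha, hb, add_zero]
      | smul l b _ hb => intro v; rw [smul_assoc, smul_comm]; exact hb _
    refine Submodule.smul_induction_on hm (fun b hb v _ => hkill b hb v) fun v w hv hw => ?_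
    rw [tmul_add, hv, hw, add_zero]
  exact Module.Flat.of_linearEquiv (LinearEquiv.ofBijective e ⟨hinj, hsur⟩)

/-- Flatness at a point from flatness of enough base changes to quotients of the local ring of the
base. -/
theorem isFlatOverAt_of_quotients [IsLocallyNoetherian Y] (f : X ⟶ Y) [LocallyOfFiniteType f]
    (F : X.Modules) (hF : Coh.IsCoh F) (x : X)
    (H : ∀ k : ℕ, 0 < k →
      ∃ (I : Ideal (Y.presheaf.stalk (f x)))
        (_ : I ≤ IsLocalRing.maximalIdeal (Y.presheaf.stalk (f x)) ^ k) (_ : IsLocalRing (Y.presheaf.stalk (f x) ⧸ I))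
        (_ : IsPreimmersion (Spec.map (CommRingCat.ofHom (Ideal.Quotient.mk I)) ≫
          Y.fromSpecStalk (f x)))
        (z : ↥(pullback f (Spec.map (CommRingCat.ofHom (Ideal.Quotient.mk I)) ≫
          Y.fromSpecStalk (f x)))),
        pullback.fst f _ z = x ∧ FlatMod.IsFlatOverAt (pullback.snd f _)
          ((Scheme.Modules.pullback (pullback.fst f _)).obj F) z) :
    FlatMod.IsFlatOverAt f F x := by
  have : IsLocallyNoetherian X := LocallyOfFiniteType.isLocallyNoetherian f
  have : F.IsQuasicoherent := hF.1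
  let O := Y.presheaf.stalk (f x)
  letI : Algebra O (X.presheaf.stalk x) := (f.stalkMap x).hom.toAlgebra
  letI := FlatMod.moduleStalkOver f F x
  haveI : IsScalarTower O (X.presheaf.stalk x) (F.presheaf.stalk x) :=
    .of_algebraMap_smul fun _ _ => rfl
  haveI := Groth.QCohMod.finite_stalk F hF.2 x
  haveI : IsLocalHom (algebraMap O (X.presheaf.stalk x)) :=
    inferInstanceAs (IsLocalHom (f.stalkMap x).hom)
  refine Groth.FlatMorOne.flat_of_forall_flat_mod_pow (S := X.presheaf.stalk x)
    (IsLocalRing.maximalIdeal O)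
    (Groth.FlatMorOne.map_le_jacobson_of_isLocalHom (IsLocalRing.maximalIdeal.isMaximal O).ne_top)
    fun k hk J _ => ?_
  obtain ⟨I, hI, _, _, z, hz, hflat⟩ := H k hk
  haveI : Module.Flat (O ⧸ I) ((O ⧸ I) ⊗[O] F.presheaf.stalk x) :=
    flat_quotient f (R := CommRingCat.of (O ⧸ I)) _ F x z hz
      (CommRingCat.ofHom (Ideal.Quotient.mk I)) Ideal.Quotient.mk_surjective rfl hflat
  let 𝔞 := IsLocalRing.maximalIdeal O ^ k
  letI : Algebra (O ⧸ I) (O ⧸ 𝔞) := (Ideal.Quotient.factor hI).toAlgebra
  haveI : IsScalarTower O (O ⧸ I) (O ⧸ 𝔞) := .of_algebraMap_eq fun _ => rfl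
  haveI : Module.Flat (O ⧸ 𝔞) ((O ⧸ 𝔞) ⊗[O] F.presheaf.stalk x) :=
    Module.Flat.of_linearEquiv
      (AlgebraTensorModule.cancelBaseChange O (O ⧸ I) (O ⧸ 𝔞) (O ⧸ 𝔞) (F.presheaf.stalk x)).symm
  exact Groth.FlatMorOne.injective_lTensor_of_flat_quotient 𝔞 J

/-- Primary residue field extensions transfer along a base change which is a preimmersion. -/
theorem primary_transfer (f : X ⟶ Y) {T : Scheme.{u}} (h : T ⟶ Y) [IsPreimmersion h]
    (x : X) (z : ↥(pullback f h)) (hz : pullback.fst f h z = x)
    (hprim : letI := (f.residueFieldMap x).hom.toAlgebra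
      ∀ a : ↑(X.residueField x), IsSeparable ↑(Y.residueField (f x)) a →
        a ∈ (f.residueFieldMap x).hom.range) :
    letI := ((pullback.snd f h).residueFieldMap z).hom.toAlgebra
    ∀ a : ↑((pullback f h).residueField z), IsSeparable ↑(T.residueField (pullback.snd f h z)) a →
      a ∈ ((pullback.snd f h).residueFieldMap z).hom.range := by
  subst hz
  let pr := pullback.fst f h
  let fR := pullback.snd f h
  have hbij : ∀ {A B : Scheme.{u}} (g : A ⟶ B) [IsPreimmersion g] (a : A),
      Function.Bijective (g.residueFieldMap a).hom := by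
    intro A B g _ a
    refine ⟨(g.residueFieldMap a).hom.injective, fun c => ?_⟩
    obtain ⟨c, rfl⟩ := A.residue_surjective a c
    obtain ⟨b, rfl⟩ := g.stalkMap_surjective a c
    exact ⟨B.residue (g a) b,
      congrArg (fun ξ => ξ.hom b) (Scheme.residue_residueFieldMap g a)⟩
  let θ := Y.residueFieldCongr (show f (pr z) = h (fR z) by
    rw [← Scheme.Hom.comp_apply, pullback.condition, Scheme.Hom.comp_apply])
  have hsq : f.residueFieldMap (pr z) ≫ pr.residueFieldMap z =
      (θ.hom ≫ h.residueFieldMap (fR z)) ≫ fR.residueFieldMap z := by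
    rw [Category.assoc, ← Scheme.residueFieldMap_comp, ← Scheme.residueFieldMap_comp]
    exact Scheme.Hom.residueFieldMap_congr pullback.condition z
  let e := θ.hom ≫ h.residueFieldMap (fR z)
  have he : Function.Bijective e.hom :=
    (hbij h (fR z)).comp (ConcreteCategory.bijective_of_isIso θ.hom)
  let K := Y.residueField (f (pr z))
  let L := X.residueField (pr z)
  letI : Algebra K L := (f.residueFieldMap (pr z)).hom.toAlgebra
  letI : Algebra (T.residueField (fR z)) ((pullback f h).residueField z) :=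
    (fR.residueFieldMap z).hom.toAlgebra
  intro a ha
  obtain ⟨b, rfl⟩ := (hbij pr z).2 a
  let eR := RingEquiv.ofBijective e.hom he
  let p := (minpoly (T.residueField (fR z)) ((pr.residueFieldMap z).hom b)).map eR.symm.toRingHom
  have hsq' : (fR.residueFieldMap z).hom.comp e.hom =
      (pr.residueFieldMap z).hom.comp (f.residueFieldMap (pr z)).hom :=
    RingHom.ext fun c => (congrArg (fun ξ => ξ.hom c) hsq).symm
  have hcomp : (pr.residueFieldMap z).hom.comp ((algebraMap K L).comp eR.symm.toRingHom) =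
      algebraMap (T.residueField (fR z)) ((pullback f h).residueField z) := by
    ext c
    obtain ⟨c, rfl⟩ := eR.surjective c
    show (pr.residueFieldMap z).hom (f.residueFieldMap (pr z) (eR.symm (eR c))) = _
    rw [RingEquiv.symm_apply_apply]
    exact (RingHom.congr_fun hsq' c).symm
  have hroot : Polynomial.aeval b p = 0 := by
    refine (pr.residueFieldMap z).hom.injective ?_
    rw [Polynomial.aeval_def, Polynomial.eval₂_map, Polynomial.hom_eval₂, hcomp, map_zero,
      ← Polynomial.aeval_def, minpoly.aeval]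
  have hb : IsSeparable K b :=
    (show p.Separable from Polynomial.Separable.map ha).of_dvd (minpoly.dvd _ _ hroot)
  obtain ⟨c, hc⟩ := hprim b hb
  refine ⟨e.hom c, ?_⟩
  rw [← hc]
  exact RingHom.congr_fun hsq' c

end Groth.EGA43Art.Adic
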