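import Mathlib

/-!
Freeness over an Artinian local ring, detected after base change along a jointly injective family.
-/

set_option autoImplicit false
universe u

open TensorProduct IsLocalRing

namespace Groth.EGA43Art

variable {A : Type u} [CommRing A]

/-- The map `M ⊗[A] Q → N ⊗[A'] Q` induced by an `A`-linear map `M → N`. -/
noncomputable def chi {A' : Type u} [CommRing A'] [Algebra A A'] {M N Q : Type u} [AddCommGroup M]
    [Module A M] [AddCommGroup N] [Module A' N] [Module A N] [IsScalarTower A A' N] [AddCommGroup Q]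
    [Module A' Q] [Module A Q] [IsScalarTower A A' Q] (ψ : M →ₗ[A] N) :
    M ⊗[A] Q →ₗ[A] N ⊗[A'] Q :=
  TensorProduct.lift
    { toFun := fun m => (TensorProduct.mk A' N Q (ψ m)).restrictScalars A
      map_add' := fun m m' => LinearMap.ext fun e => by simp [add_tmul]
      map_smul' := fun a m => LinearMap.ext fun e => by
        show ψ (a • m) ⊗ₜ[A'] e = a • (ψ m ⊗ₜ[A'] e)
        rw [map_smul, smul_tmul'] }

@[simp] theorem chi_tmul {A' : Type u} [CommRing A'] [Algebra A A'] {M N Q : Type u} [AddCommGroup M]
    [Module A M] [AddCommGroup N] [Module A' N] [Module A N] [IsScalarTower A A' N] [AddCommGroup Q]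
    [Module A' Q] [Module A Q] [IsScalarTower A A' Q] (ψ : M →ₗ[A] N) (m : M) (e : Q) :
    chi (A' := A') ψ (m ⊗ₜ[A] e) = ψ m ⊗ₜ[A'] e := rfl

variable [IsArtinianRing A] [IsLocalRing A] {M : Type u} [AddCommGroup M] [Module A M]

/-- Let the `N i j` be flat over `A' i`, with `A → A' i` jointly injective. If for every `i` and
every `A' i`-module `Q` killed by the maximal ideal of `A` the maps `M ⊗ Q → N i j ⊗ Q` are jointly
injective, then `M` is flat over `A`. -/
theorem flat_of_detect {ι : Type u} (A' : ι → Type u) [∀ i, CommRing (A' i)]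
    [∀ i, Algebra A (A' i)] (hu : ∀ a : A, (∀ i, algebraMap A (A' i) a = 0) → a = 0)
    {κ : ι → Type u} (N : ∀ i, κ i → Type u) [∀ i j, AddCommGroup (N i j)]
    [∀ i j, Module (A' i) (N i j)] [∀ i j, Module A (N i j)]
    [∀ i j, IsScalarTower A (A' i) (N i j)] [∀ i j, Module.Flat (A' i) (N i j)]
    (ψ : ∀ i j, M →ₗ[A] N i j)
    (hdet : ∀ (i : ι) (Q : Type u) [AddCommGroup Q] [Module (A' i) Q] [Module A Q]
      [IsScalarTower A (A' i) Q], (∀ a ∈ maximalIdeal A, ∀ e : Q, a • e = 0) →
      ∀ w : M ⊗[A] Q, (∀ j, chi (A' := A' i) (ψ i j) w = 0) → w = 0) :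
    Module.Flat A M := by
  classical
  let V := M ⧸ (maximalIdeal A • ⊤ : Submodule A M)
  let _ : Field (A ⧸ maximalIdeal A) := Ideal.Quotient.field _
  let b := Module.Free.chooseBasis (A ⧸ maximalIdeal A) V
  choose e he using fun j => Submodule.Quotient.mk_surjective _ (b j)
  let F : (Module.Free.ChooseBasisIndex (A ⧸ maximalIdeal A) V →₀ A) →ₗ[A] M :=
    Finsupp.linearCombination A e
  obtain ⟨n, hn⟩ := IsArtinianRing.isNilpotent_jacobson_bot (R := A)
  rw [IsLocalRing.jacobson_eq_maximalIdeal ⊥ bot_ne_top] at hn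
  -- surjectivity
  have hsurj : Function.Surjective F := by
    have h1 : ∀ v : V, ∃ y ∈ LinearMap.range F, Submodule.Quotient.mk y = v := by
      intro v
      choose g hg using fun j => Ideal.Quotient.mk_surjective (b.repr v j)
      refine ⟨F (∑ j ∈ (b.repr v).support, Finsupp.single j (g j)), LinearMap.mem_range_self _ _, ?_⟩
      conv_rhs => rw [← b.linearCombination_repr v]
      rw [Finsupp.linearCombination_apply (A ⧸ maximalIdeal A) (b.repr v), Finsupp.sum, map_sum,
        ← Submodule.mkQ_apply, map_sum]
      refine Finset.sum_congr rfl fun j _ => ?_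
      simp only [F, Finsupp.linearCombination_single, map_smul, Submodule.mkQ_apply, he, ← hg j]
      rfl
    have h2 : ∀ k : ℕ, ∀ x : M, ∃ y ∈ LinearMap.range F, x - y ∈ maximalIdeal A ^ k •
        (⊤ : Submodule A M) := by
      intro k
      induction k with
      | zero =>
        refine fun x => ⟨0, Submodule.zero_mem _, ?_⟩
        rw [pow_zero, Ideal.one_eq_top, Submodule.top_smul]
        trivial
      | succ k ih =>
        intro x
        obtain ⟨y, hy, hxy⟩ := ih x
        suffices ∀ z ∈ maximalIdeal A ^ k • (⊤ : Submodule A M), ∃ y ∈ LinearMap.range F,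
            z - y ∈ maximalIdeal A ^ (k + 1) • (⊤ : Submodule A M) by
          obtain ⟨y', hy', h'⟩ := this _ hxy
          exact ⟨y + y', Submodule.add_mem _ hy hy', by rwa [← sub_sub]⟩
        intro z hz
        refine Submodule.smul_induction_on hz (fun r hr x _ => ?_) fun z z' hz hz' => ?_
        · obtain ⟨y, hy, hxy⟩ := h1 (Submodule.Quotient.mk x)
          refine ⟨r • y, Submodule.smul_mem _ _ hy, ?_⟩
          rw [← smul_sub, pow_succ, Submodule.mul_smul]
          exact Submodule.smul_mem_smul hr ((Submodule.Quotient.eq _).1 hxy.symm)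
        · obtain ⟨y, hy, h⟩ := hz
          obtain ⟨y', hy', h'⟩ := hz'
          exact ⟨y + y', Submodule.add_mem _ hy hy', by
            rw [add_sub_add_comm]; exact Submodule.add_mem _ h h'⟩
    intro x
    obtain ⟨y, hy, hxy⟩ := h2 n x
    rw [hn, Ideal.zero_eq_bot, Submodule.bot_smul, Submodule.mem_bot, sub_eq_zero] at hxy
    exact hxy ▸ hy
  -- injectivity
  have hinj : Function.Injective F := by
    rw [← LinearMap.ker_eq_bot, eq_bot_iff]
    intro a ha
    rw [LinearMap.mem_ker] at ha
    rw [Submodule.mem_bot]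
    ext j₀
    refine hu _ fun i => ?_
    let I : Ideal (A' i) := (maximalIdeal A).map (algebraMap A (A' i))
    suffices h : ∀ k : ℕ, ∀ j, algebraMap A (A' i) (a j) ∈ I ^ k by
      have := h n j₀
      rwa [← Ideal.map_pow, hn, Ideal.zero_eq_bot, Ideal.map_bot, Ideal.mem_bot] at this
    intro k
    induction k with
    | zero => simp
    | succ k ih =>
      let Q := ↥(I ^ k) ⧸ (I • (⊤ : Submodule (A' i) ↥(I ^ k)))
      have hQ : ∀ x ∈ maximalIdeal A, ∀ q : Q, x • q = 0 := by
        intro x hx q
        obtain ⟨q, rfl⟩ := Submodule.Quotient.mk_surjective _ q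
        rw [← algebraMap_smul (A' i) x, ← Submodule.Quotient.mk_smul,
          Submodule.Quotient.mk_eq_zero]
        exact Submodule.smul_mem_smul (Ideal.mem_map_of_mem _ hx) Submodule.mem_top
      let c : ∀ j, ↥(I ^ k) := fun j => ⟨_, ih j⟩
      let w : M ⊗[A] Q := ∑ j ∈ a.support, e j ⊗ₜ Submodule.Quotient.mk (c j)
      have hw : w = 0 := by
        refine hdet i Q hQ w fun j => ?_
        have hy : ∑ l ∈ a.support, ψ i j (e l) ⊗ₜ[A' i] c l = 0 := by
          apply Module.Flat.lTensor_preserves_injective_linearMap (M := N i j)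
            (I ^ k).subtype Subtype.val_injective
          apply (TensorProduct.rid (A' i) (N i j)).injective
          simp only [map_zero, map_sum, LinearMap.lTensor_tmul, TensorProduct.rid_tmul,
            Submodule.subtype_apply]
          have h0 := congrArg (ψ i j) ha
          rw [map_zero] at h0
          rw [← h0]
          simp only [F, Finsupp.linearCombination_apply, Finsupp.sum, map_sum, map_smul, c,
            algebraMap_smul]
        simp only [w, map_sum, chi_tmul]
        have h1 := congrArg ((Submodule.mkQ (I • (⊤ : Submodule (A' i) ↥(I ^ k)))).lTensor (N i j)) hy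
        simp only [map_sum, map_zero, LinearMap.lTensor_tmul, Submodule.mkQ_apply] at h1
        exact h1
      intro j
      -- read off the coefficient of `e j`
      let ε : M →ₗ[A] A ⧸ maximalIdeal A :=
        ((b.coord j).restrictScalars A) ∘ₗ Submodule.mkQ _
      have hε : ∀ l, ε (e l) = if l = j then 1 else 0 := fun l => by
        show b.repr (Submodule.Quotient.mk (e l)) j = _
        rw [he, b.repr_self, Finsupp.single_apply]
      let sm : (A ⧸ maximalIdeal A) →ₗ[A] Q →ₗ[A] Q :=
        Submodule.liftQ _ (LinearMap.lsmul A Q) fun x hx => LinearMap.ext fun q => hQ x hx q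
      have h2 := congrArg (TensorProduct.lift (sm ∘ₗ ε)) hw
      simp only [w, map_sum, map_zero, TensorProduct.lift.tmul, LinearMap.comp_apply, hε] at h2
      have hone : ∀ q : Q, sm 1 q = q := fun q => one_smul A q
      by_cases hj : j ∈ a.support
      · rw [Finset.sum_eq_single j (fun l _ hl => by simp [hl]) (fun h => absurd hj h), if_pos rfl,
          hone, Submodule.Quotient.mk_eq_zero] at h2
        have h3 : ((c j : ↥(I ^ k)) : A' i) ∈ I ^ (k + 1) := by
          refine Submodule.smul_induction_on (p := fun (s : ↥(I ^ k)) => (s : A' i) ∈ I ^ (k + 1)) h2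
            (fun x hx s _ => ?_) (fun s t hs ht => ?_)
          · rw [pow_succ']
            exact Ideal.mul_mem_mul hx s.2
          · exact Ideal.add_mem _ hs ht
        exact h3
      · rw [Finsupp.notMem_support_iff.1 hj, map_zero]
        exact Ideal.zero_mem _
  exact Module.Flat.of_linearEquiv (LinearEquiv.ofBijective F ⟨hinj, hsurj⟩).symm

end Groth.EGA43Art
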