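import Groth.Agent.EGA43Art.Detect

/-!
A tensor with a module killed by the maximal ideal vanishes near a prime `x` as soon as it vanishes
at every prime over `x` of the extended algebra.
-/

set_option autoImplicit false
universe u

open TensorProduct IsLocalRing

namespace Groth.EGA43Art

variable {A R : Type u} [CommRing A] [CommRing R] [Algebra A R]

/-- Krull intersection for `M_x ⊗ Q` with `Q` a vector space over the residue field. -/
theorem eq_zero_of_forall_mem_pow_smul [IsLocalRing A] [IsNoetherianRing R] (x : Ideal R)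
    [x.IsPrime] {Mx : Type u} [AddCommGroup Mx] [Module R Mx] [Module A Mx]
    [IsScalarTower A R Mx] [Module (Localization.AtPrime x) Mx]
    [IsScalarTower R (Localization.AtPrime x) Mx] [Module.Finite (Localization.AtPrime x) Mx]
    {Q : Type u} [AddCommGroup Q] [Module A Q] (hQ : ∀ a ∈ maximalIdeal A, ∀ e : Q, a • e = 0)
    (w : Mx ⊗[A] Q) (hw : ∀ n : ℕ, w ∈ x ^ n • (⊤ : Submodule R (Mx ⊗[A] Q))) : w = 0 := by
  classical
  let Rx := Localization.AtPrime x
  have : IsScalarTower A Rx Mx := IsScalarTower.of_algebraMap_smul fun a m => by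
    rw [IsScalarTower.algebraMap_apply A R Rx, algebraMap_smul, algebraMap_smul]
  let k := A ⧸ maximalIdeal A
  let _ : Field k := Ideal.Quotient.field _
  have htor : Module.IsTorsionBySet A Q (maximalIdeal A : Set A) := fun e a => hQ a a.2 e
  let _ : Module k Q := htor.module
  let b := Module.Free.chooseBasis k Q
  let r : Q ≃ₗ[A] (Module.Free.ChooseBasisIndex k Q →₀ k) := b.repr.restrictScalars A
  let φ : Mx ⊗[A] Q →ₗ[R] (Module.Free.ChooseBasisIndex k Q →₀ Mx ⊗[A] k) :=
    (TensorProduct.finsuppRight A R Mx k _).toLinearMap ∘ₗ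
      TensorProduct.AlgebraTensorModule.lTensor R Mx r.toLinearMap
  have hφ : Function.Injective φ := by
    rw [LinearMap.coe_comp, LinearEquiv.coe_coe]
    refine (LinearEquiv.injective _).comp ?_
    exact (r.lTensor Mx).injective
  apply hφ
  rw [map_zero]
  ext j
  have : Module.Finite Rx (Mx ⊗[A] k) :=
    Module.Finite.of_surjective
      (TensorProduct.AlgebraTensorModule.lTensor Rx Mx (Algebra.linearMap A k) ∘ₗ
        (TensorProduct.AlgebraTensorModule.rid A Rx Mx).symm.toLinearMap)
      (by
        rw [LinearMap.coe_comp, LinearEquiv.coe_coe]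
        exact (show Function.Surjective (TensorProduct.AlgebraTensorModule.lTensor Rx Mx
          (Algebra.linearMap A k)) from LinearMap.lTensor_surjective (R := A) Mx
            (g := Algebra.linearMap A k) Ideal.Quotient.mk_surjective).comp
          (LinearEquiv.surjective _))
  have : IsNoetherianRing Rx := IsLocalization.isNoetherianRing x.primeCompl Rx inferInstance
  have hmem : φ w j ∈ ⨅ n : ℕ, maximalIdeal Rx ^ n • (⊤ : Submodule Rx (Mx ⊗[A] k)) := by
    rw [Submodule.mem_iInf]
    intro n
    refine Submodule.smul_induction_on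
      (p := fun v => φ v j ∈ maximalIdeal Rx ^ n • (⊤ : Submodule Rx (Mx ⊗[A] k))) (hw n)
      (fun s hs v _ => ?_) (fun v v' hv hv' => ?_)
    · rw [map_smul, Finsupp.smul_apply, ← algebraMap_smul Rx s]
      refine Submodule.smul_mem_smul ?_ Submodule.mem_top
      rw [← Localization.AtPrime.map_eq_maximalIdeal, ← Ideal.map_pow]
      exact Ideal.mem_map_of_mem _ hs
    · rw [map_add, Finsupp.add_apply]
      exact Submodule.add_mem _ hv hv'
  have hbot := Ideal.iInf_pow_smul_eq_bot_of_le_jacobson (M := Mx ⊗[A] k) (maximalIdeal Rx)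
    (maximalIdeal_le_jacobson _)
  rw [Finsupp.zero_apply]
  exact (Submodule.mem_bot Rx).1 (hbot.le hmem)

variable {A' P : Type u} [CommRing A'] [Algebra A A'] [CommRing P] [Algebra R P] [Algebra A' P]
  [Algebra A P] [IsScalarTower A R P] [IsScalarTower A A' P] [Algebra.IsPushout A A' R P]

/-- Detection at the primes of `P = R ⊗[A] A'` over `x`. -/
theorem detect_over [IsLocalRing A] [IsNoetherianRing R] (x : Ideal R) [x.IsPrime]
    {M : Type u} [AddCommGroup M] [Module R M] [Module A M] [IsScalarTower A R M]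
    {Mx : Type u} [AddCommGroup Mx] [Module R Mx] [Module A Mx] [IsScalarTower A R Mx]
    [Module (Localization.AtPrime x) Mx] [IsScalarTower R (Localization.AtPrime x) Mx]
    [Module.Finite (Localization.AtPrime x) Mx]
    (loc : M →ₗ[R] Mx) [IsLocalizedModule x.primeCompl loc]
    {κ : Type u} (q : κ → Ideal P) [∀ j, (q j).IsPrime] (hq : ∀ j, (q j).comap (algebraMap R P) = x)
    (hall : ∀ p : Ideal P, p.IsPrime → p.comap (algebraMap R P) = x → ∃ j, q j = p)
    (Nq : κ → Type u) [∀ j, AddCommGroup (Nq j)] [∀ j, Module P (Nq j)] [∀ j, Module A' (Nq j)]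
    [∀ j, IsScalarTower A' P (Nq j)] [∀ j, Module A (Nq j)] [∀ j, IsScalarTower A A' (Nq j)]
    (ν : ∀ j, P ⊗[R] M →ₗ[P] Nq j) [∀ j, IsLocalizedModule (q j).primeCompl (ν j)]
    (ψ : ∀ j, Mx →ₗ[A] Nq j)
    (hψR : ∀ j (r : R) (y : Mx), ψ j (r • y) = algebraMap R P r • ψ j y) (hψ : ∀ j m, ψ j (loc m) = ν j ((1 : P) ⊗ₜ m))
    {Q : Type u} [AddCommGroup Q] [Module A' Q] [Module A Q] [IsScalarTower A A' Q]
    (hQ : ∀ a ∈ maximalIdeal A, ∀ e : Q, a • e = 0)
    (w : Mx ⊗[A] Q) (hw : ∀ j, chi (A' := A') (ψ j) w = 0) : w = 0 := by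
  classical
  -- clear the denominator of `w`
  have hloc : IsLocalizedModule x.primeCompl
      (TensorProduct.AlgebraTensorModule.rTensor A Q loc) := inferInstance
  obtain ⟨⟨t, ⟨s, hs⟩⟩, hst⟩ := IsLocalizedModule.surj x.primeCompl
    (TensorProduct.AlgebraTensorModule.rTensor A Q loc) w
  have hst' : s • w = TensorProduct.AlgebraTensorModule.rTensor A Q loc t := hst
  -- `M ⊗[A] Q ≃ (P ⊗[R] M) ⊗[A'] Q`
  let g : P ⊗[R] M ≃ₗ[A'] A' ⊗[A] M := Algebra.IsPushout.cancelBaseChange A A' R P M
  let e : (P ⊗[R] M) ⊗[A'] Q ≃ₗ[A] M ⊗[A] Q :=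
    ((g.rTensor Q).restrictScalars A) ≪≫ₗ
      (TensorProduct.comm A' (A' ⊗[A] M) Q).restrictScalars A ≪≫ₗ
      (TensorProduct.AlgebraTensorModule.cancelBaseChange A A' A' Q M).restrictScalars A ≪≫ₗ
      (TensorProduct.comm A Q M)
  have he : ∀ (m : M) (a : Q), e (((1 : P) ⊗ₜ[R] m) ⊗ₜ[A'] a) = m ⊗ₜ[A] a := by
    intro m a
    simp [e, g, Algebra.IsPushout.cancelBaseChange_tmul]
  let θ : M →ₗ[A] P ⊗[R] M := (TensorProduct.mk R P M 1).restrictScalars A
  have heθ : ∀ v, e (chi (A' := A') θ v) = v := by
    intro v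
    induction v using TensorProduct.induction_on with
    | zero => simp
    | tmul m a => rw [chi_tmul]; exact he m a
    | add a b ha hb => rw [map_add, map_add, ha, hb]
  have hesymm : ∀ v, e.symm v = chi (A' := A') θ v := fun v => by
    rw [LinearEquiv.symm_apply_eq, heθ]
  -- the image of `t` is killed outside every prime over `x`
  let T := chi (A' := A') θ t
  let J : Ideal P := LinearMap.ker (LinearMap.toSpanSingleton P ((P ⊗[R] M) ⊗[A'] Q) T)
  have hJ : ∀ p : Ideal P, p.IsPrime → p.comap (algebraMap R P) = x → ¬ J ≤ p := by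
    intro p hp hpx hle
    obtain ⟨j, rfl⟩ := hall p hp hpx
    have : IsLocalizedModule (q j).primeCompl
        (TensorProduct.AlgebraTensorModule.rTensor A' Q (ν j)) := inferInstance
    have h0 : TensorProduct.AlgebraTensorModule.rTensor A' Q (ν j) T = 0 := by
      have hnat : ∀ v, TensorProduct.AlgebraTensorModule.rTensor A' Q (ν j) (chi (A' := A') θ v) =
          chi (A' := A') (ψ j) (TensorProduct.AlgebraTensorModule.rTensor A Q loc v) := by
        intro v
        induction v using TensorProduct.induction_on with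
        | zero => simp
        | tmul m a => simp [θ, hψ]
        | add a b ha hb => simp only [map_add, ha, hb]
      rw [hnat, ← hst']
      have hsv : ∀ v : Mx ⊗[A] Q, chi (A' := A') (ψ j) (s • v) =
          algebraMap R P s • chi (A' := A') (ψ j) v := by
        intro v
        induction v using TensorProduct.induction_on with
        | zero => simp
        | tmul m a =>
          rw [smul_tmul', chi_tmul, chi_tmul, smul_tmul', hψR]
        | add a b ha hb => simp only [smul_add, map_add, ha, hb]
      rw [hsv, hw j, smul_zero]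
    obtain ⟨⟨c, hc⟩, hct⟩ := (IsLocalizedModule.eq_zero_iff (q j).primeCompl
      (TensorProduct.AlgebraTensorModule.rTensor A' Q (ν j))).1 h0
    exact hc (hle hct)
  -- conclude
  have hmem : ∀ n : ℕ, ∃ d ∉ x, d • t ∈ x ^ n • (⊤ : Submodule R (M ⊗[A] Q)) := by
    intro n
    by_contra hno
    push Not at hno
    let K : Ideal P := J ⊔ (x ^ n).map (algebraMap R P)
    have hdisj : Disjoint (K : Set P) (x.primeCompl.map (algebraMap R P) : Set P) := by
      rw [Set.disjoint_left]
      rintro _ hdK ⟨d, hd, rfl⟩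
      change algebraMap R P d ∈ K at hdK
      obtain ⟨j₁, hj₁, j₂, hj₂, hsum⟩ := Submodule.mem_sup.1 hdK
      refine hno d hd ?_
      have h1 : algebraMap R P d • T = j₂ • T := by
        rw [← hsum, add_smul, show j₁ • T = 0 from hj₁, zero_add]
      have h2 : j₂ • T ∈ (x ^ n).map (algebraMap R P) • (⊤ : Submodule P ((P ⊗[R] M) ⊗[A'] Q)) :=
        Submodule.smul_mem_smul hj₂ Submodule.mem_top
      rw [← h1, ← Submodule.restrictScalars_mem R, Ideal.smul_restrictScalars,
        Submodule.restrictScalars_top, algebraMap_smul] at h2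
      have hsm : ∀ (r : R) (v : M ⊗[A] Q), chi (A' := A') θ (r • v) = r • chi (A' := A') θ v := by
        intro r v
        induction v using TensorProduct.induction_on with
        | zero => simp
        | tmul m a => simp [θ, smul_tmul']
        | add a b ha hb => simp only [smul_add, map_add, ha, hb]
      have h3 : chi (A' := A') θ (d • t) ∈ x ^ n • (⊤ : Submodule R ((P ⊗[R] M) ⊗[A'] Q)) := by
        rw [hsm]; exact h2
      let eR : M ⊗[A] Q ≃ₗ[R] (P ⊗[R] M) ⊗[A'] Q :=
        e.symm.toAddEquiv.toLinearEquiv fun r v => by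
          show e.symm (r • v) = r • e.symm v
          rw [hesymm, hesymm, hsm]
      have h4 : eR (d • t) ∈ (x ^ n • (⊤ : Submodule R (M ⊗[A] Q))).map eR.toLinearMap := by
        rw [Submodule.map_smul'', Submodule.map_top, LinearEquiv.range]
        show e.symm (d • t) ∈ _
        rw [hesymm]
        exact h3
      obtain ⟨v, hv, hv'⟩ := h4
      exact eR.injective hv' ▸ hv
    obtain ⟨p, hp, hKp, hdp⟩ := Ideal.exists_le_prime_disjoint K _ hdisj
    have h1 : p.comap (algebraMap R P) ≤ x := by
      intro r hr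
      by_contra hrx
      exact Set.disjoint_left.1 hdp hr ⟨r, hrx, rfl⟩
    have h2 : x ≤ p.comap (algebraMap R P) := by
      intro r hr
      rcases eq_or_ne n 0 with rfl | hn
      · exfalso
        apply hp.ne_top
        rw [eq_top_iff]
        exact le_trans (by rw [pow_zero, Ideal.one_eq_top, Ideal.map_top])
          (le_trans le_sup_right hKp)
      · exact hp.mem_of_pow_mem n (by
          rw [← map_pow]
          exact hKp (Ideal.mem_sup_right (Ideal.mem_map_of_mem _ (Ideal.pow_mem_pow hr n))))
    exact hJ p hp (le_antisymm h1 h2) (le_trans le_sup_left hKp)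
  refine eq_zero_of_forall_mem_pow_smul x hQ w fun n => ?_
  obtain ⟨d, hd, hdt⟩ := hmem n
  have h1 : (d * s) • w ∈ x ^ n • (⊤ : Submodule R (Mx ⊗[A] Q)) := by
    rw [mul_smul, hst', ← map_smul]
    have h2 := Submodule.mem_map_of_mem (f := TensorProduct.AlgebraTensorModule.rTensor A Q loc) hdt
    rw [Submodule.map_smul''] at h2
    exact Submodule.smul_mono le_rfl le_top h2
  have hu : IsUnit (algebraMap R (Module.End R (Mx ⊗[A] Q)) (d * s)) :=
    IsLocalizedModule.map_units (TensorProduct.AlgebraTensorModule.rTensor A Q loc)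
      (⟨d * s, ‹x.IsPrime›.mul_notMem hd hs⟩ : x.primeCompl)
  obtain ⟨v, hv⟩ := hu.exists_left_inv
  have h3 := Submodule.mem_map_of_mem (f := v) h1
  rw [Submodule.map_smul''] at h3
  have h4 : v ((d * s) • w) = w := by
    have h5 : v ((algebraMap R (Module.End R (Mx ⊗[A] Q)) (d * s)) w) = w := LinearMap.congr_fun hv w
    exact h5
  rw [h4] at h3
  exact Submodule.smul_mono le_rfl le_top h3

end Groth.EGA43Art
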