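import Mathlib
import Groth.Agent.VarietyBC.TensorGeom
import Groth.Agent.VarietyBC.IrredComp

/-!
In the tensor product of two fields, one of which is a primary extension of the ground field, every
element which is not nilpotent is regular.
-/

set_option autoImplicit false
universe u

open TensorProduct

namespace Groth.EGA43Art

variable {k : Type u} [Field k]

/-- `k(t) ⊗ K` is a domain. -/
theorem isDomain_fractionRing_tensor (K : Type u) [Field K] [Algebra k K] (s : Type u) :
    IsDomain (FractionRing (MvPolynomial s k) ⊗[k] K) := by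
  let P := MvPolynomial s k
  let F := FractionRing P
  let P' := MvPolynomial s K
  let Ω := FractionRing P'
  let φ : P →ₐ[k] Ω := (IsScalarTower.toAlgHom k P' Ω).comp
    (MvPolynomial.mapAlgHom (Algebra.ofId k K))
  have hφ : Function.Injective φ :=
    (IsFractionRing.injective P' Ω).comp
      (MvPolynomial.map_injective _ (algebraMap k K).injective)
  let Φ₁ : F →ₐ[k] Ω := IsFractionRing.liftAlgHom hφ
  let Φ : F ⊗[k] K →ₐ[k] Ω :=
    Algebra.TensorProduct.lift Φ₁ (IsScalarTower.toAlgHom k K Ω) fun _ _ => Commute.all _ _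
  let ι : P ⊗[k] K →ₐ[k] F ⊗[k] K :=
    Algebra.TensorProduct.map (IsScalarTower.toAlgHom k P F) (AlgHom.id k K)
  have hι : Function.Injective (Φ.comp ι) := by
    let e : K ⊗[k] P ≃ₐ[K] P' := MvPolynomial.algebraTensorAlgEquiv k K
    have h : ∀ z, Φ (ι z) =
        algebraMap P' Ω (e (Algebra.TensorProduct.comm k P K z)) := by
      intro z
      induction z using TensorProduct.induction_on with
      | zero => simp
      | tmul p a =>
        simp only [Φ, ι, Φ₁, e, Algebra.TensorProduct.map_tmul, AlgHom.coe_id, id_eq,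
          Algebra.TensorProduct.lift_tmul, IsScalarTower.coe_toAlgHom',
          Algebra.TensorProduct.comm_tmul]
        erw [MvPolynomial.algebraTensorAlgEquiv_tmul]
        rw [IsFractionRing.liftAlgHom_apply, IsFractionRing.lift_algebraMap,
          Algebra.smul_def, map_mul, IsScalarTower.algebraMap_apply K P' Ω, mul_comm]
        rfl
      | add x y hx hy => simp only [map_add, hx, hy]
    intro z w hzw
    have h1 : Φ (ι z) = Φ (ι w) := hzw
    rw [h, h] at h1
    exact (Algebra.TensorProduct.comm k P K).injective (e.injective (IsFractionRing.injective P' Ω h1))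
  have hden : ∀ z : F ⊗[k] K, ∃ d : nonZeroDivisors P, ∃ y,
      (algebraMap P F d ⊗ₜ[k] (1 : K)) * z = ι y := by
    intro z
    induction z using TensorProduct.induction_on with
    | zero => exact ⟨1, 0, by rw [map_zero, mul_zero]⟩
    | tmul f a =>
      obtain ⟨n, d, hd, rfl⟩ := IsFractionRing.div_surjective P f
      refine ⟨⟨d, hd⟩, n ⊗ₜ a, ?_⟩
      have hd0 : algebraMap P F d ≠ 0 :=
        IsFractionRing.to_map_ne_zero_of_mem_nonZeroDivisors hd
      simp only [ι, Algebra.TensorProduct.tmul_mul_tmul, one_mul, Algebra.TensorProduct.map_tmul,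
        AlgHom.coe_id, id_eq, IsScalarTower.coe_toAlgHom']
      rw [mul_div_cancel₀ _ hd0]
    | add x y hx hy =>
      obtain ⟨d, v, hv⟩ := hx
      obtain ⟨d', v', hv'⟩ := hy
      refine ⟨d * d', (d'.1 ⊗ₜ 1) * v + (d.1 ⊗ₜ 1) * v', ?_⟩
      rw [map_add, map_mul ι, map_mul ι, ← hv, ← hv', mul_add]
      simp only [ι, Algebra.TensorProduct.map_tmul, IsScalarTower.coe_toAlgHom', AlgHom.coe_id,
        id_eq, ← mul_assoc, Algebra.TensorProduct.tmul_mul_tmul, one_mul, Submonoid.coe_mul, map_mul,
        mul_comm (algebraMap P F d'.1)]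
  refine Function.Injective.isDomain Φ.toRingHom ((injective_iff_map_eq_zero _).2 fun z hz => ?_)
  obtain ⟨d, y, hy⟩ := hden z
  have h1 : (Φ.comp ι) y = 0 := by
    show Φ (ι y) = 0
    rw [← hy, map_mul]
    have : Φ z = 0 := hz
    rw [this, mul_zero]
  have hy0 : y = 0 := hι (h1.trans (map_zero _).symm)
  rw [hy0, map_zero] at hy
  refine (IsUnit.mul_right_eq_zero ?_).1 hy
  exact ((IsLocalization.map_units F d).map
    (Algebra.TensorProduct.includeLeft : F →ₐ[k] F ⊗[k] K))

theorem eq_zero_of_mul_eq_zero_of_isIntegral (F L D : Type u) [Field F] [Field L] [Algebra F L]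
    [Algebra.IsIntegral F L] [CommRing D] [IsDomain D] [Algebra F D]
    (hprime : (nilradical (L ⊗[F] D)).IsPrime) (c' z' : L ⊗[F] D) (hcz : c' * z' = 0)
    (hc : ¬ IsNilpotent c') : z' = 0 := by
  let _ : Algebra D (L ⊗[F] D) := Algebra.TensorProduct.rightAlgebra
  -- torsion-free over `D`
  have htor : ∀ d : D, d ≠ 0 → ∀ y : L ⊗[F] D, ((1 : L) ⊗ₜ[F] d) * y = 0 → y = 0 := by
    intro d hd y hy
    have hinj : Function.Injective ((LinearMap.mulLeft F d).lTensor L) :=
      Module.Flat.lTensor_preserves_injective_linearMap _ fun a b hab => mul_left_cancel₀ hd hab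
    apply hinj
    rw [map_zero]
    refine Eq.trans ?_ hy
    clear hy
    induction y using TensorProduct.induction_on with
    | zero => simp
    | tmul a b => simp
    | add a b ha hb => simp only [map_add, mul_add, ha, hb]
  have hDint : ∀ y : L ⊗[F] D, IsIntegral D y := by
    intro y
    induction y using TensorProduct.induction_on with
    | zero => exact isIntegral_zero
    | tmul a b =>
      have h1 : IsIntegral D ((1 : L) ⊗ₜ[F] b) := isIntegral_algebraMap (x := b)
      have h2 : IsIntegral D (a ⊗ₜ[F] (1 : D)) := by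
        have : IsScalarTower F D (L ⊗[F] D) := IsScalarTower.of_algebraMap_eq fun r => by
          show algebraMap F L r ⊗ₜ[F] (1 : D) = (1 : L) ⊗ₜ[F] algebraMap F D r
          rw [Algebra.algebraMap_eq_smul_one, Algebra.algebraMap_eq_smul_one (A := D), smul_tmul]
        exact ((Algebra.IsIntegral.isIntegral (R := F) a).map
          (Algebra.TensorProduct.includeLeft : L →ₐ[F] L ⊗[F] D)).tower_top
      have h3 := h2.mul h1
      rwa [Algebra.TensorProduct.tmul_mul_tmul, mul_one, one_mul] at h3
    | add a b ha hb => exact ha.add hb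
  let N := nilradical (L ⊗[F] D)
  have : IsDomain ((L ⊗[F] D) ⧸ N) := Ideal.Quotient.isDomain N
  have hc0 : Ideal.Quotient.mk N c' ≠ 0 := fun h0 =>
    hc (mem_nilradical.1 (Ideal.Quotient.eq_zero_iff_mem.1 h0))
  have hint : IsIntegral D (Ideal.Quotient.mk N c') := (hDint c').map (Ideal.Quotient.mkₐ D N)
  have hne := Ideal.comap_ne_bot_of_integral_mem (R := D) hc0
    (Ideal.mem_span_singleton_self (Ideal.Quotient.mk N c')) hint
  obtain ⟨d, hd, hd0⟩ := Submodule.exists_mem_ne_zero_of_ne_bot hne
  obtain ⟨v, hv⟩ := Ideal.mem_span_singleton'.1 (Ideal.mem_comap.1 hd)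
  obtain ⟨v, rfl⟩ := Ideal.Quotient.mk_surjective v
  obtain ⟨n, hn⟩ : IsNilpotent ((1 : L) ⊗ₜ[F] d - v * c') := by
    rw [← mem_nilradical, ← Ideal.Quotient.eq_zero_iff_mem, map_sub, map_mul, hv, sub_eq_zero]
    rfl
  have key : ∀ j : ℕ, ((1 : L) ⊗ₜ[F] d) ^ j * z' = ((1 : L) ⊗ₜ[F] d - v * c') ^ j * z' := by
    intro j
    induction j with
    | zero => simp
    | succ j ih =>
      rw [pow_succ' _ j, pow_succ' _ j, mul_assoc, ih, sub_mul _ (v * c'), sub_mul,
        mul_assoc (v * c'), mul_comm _ z', ← mul_assoc (v * c'), mul_assoc v, hcz, mul_zero, zero_mul,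
        sub_zero, mul_assoc]
      congr 1
      exact mul_comm _ _
  have h2 := key n
  rw [hn, zero_mul, Algebra.TensorProduct.tmul_pow, one_pow] at h2
  exact htor (d ^ n) (pow_ne_zero _ hd0) z' h2

theorem eq_zero_or_isNilpotent_aux (K L F : Type u) [Field K] [Algebra k K] [Field L]
    [Algebra k L] [Field F] [Algebra k F] [Algebra F L] [IsScalarTower k F L]
    [Algebra.IsIntegral F L] [IsDomain (F ⊗[k] K)]
    (hL : ∀ a : L, IsSeparable k a → a ∈ Set.range (algebraMap k L))
    (c z : L ⊗[k] K) (h : c * z = 0) : z = 0 ∨ IsNilpotent c := by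
  let e : L ⊗[F] (F ⊗[k] K) ≃ₐ[L] L ⊗[k] K := Algebra.TensorProduct.cancelBaseChange k F L L K
  by_cases hc : IsNilpotent c
  · exact .inr hc
  left
  have hprime : (nilradical (L ⊗[F] (F ⊗[k] K))).IsPrime :=
    Groth.VarietyBC.nilradical_isPrime_of_injective e.toAlgHom.toRingHom e.injective
      (Groth.VarietyBC.nilradical_isPrime_tensor_of_sepClosedIn hL K)
  have hz := eq_zero_of_mul_eq_zero_of_isIntegral F L (F ⊗[k] K) hprime (e.symm c) (e.symm z)
    (by rw [← map_mul, h, map_zero]) fun hn => hc (by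
      have := hn.map e
      rwa [e.apply_symm_apply] at this)
  exact e.symm.injective (hz.trans (map_zero _).symm)

/-- Elements of `L ⊗ K` are nilpotent or regular when `k` is separably closed in `L`. -/
theorem eq_zero_or_isNilpotent_of_mul_eq_zero (K L : Type u) [Field K] [Algebra k K] [Field L]
    [Algebra k L] (hL : ∀ a : L, IsSeparable k a → a ∈ Set.range (algebraMap k L))
    (c z : L ⊗[k] K) (h : c * z = 0) : z = 0 ∨ IsNilpotent c := by
  obtain ⟨t, ht⟩ := exists_isTranscendenceBasis k L
  let F := IntermediateField.adjoin k (Set.range ((↑) : t → L))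
  have : Algebra.IsAlgebraic F L := ht.isAlgebraic_field
  have : Algebra.IsIntegral F L := Algebra.IsAlgebraic.isIntegral
  have : IsDomain (F ⊗[k] K) := by
    have := isDomain_fractionRing_tensor (k := k) K t
    exact (Algebra.TensorProduct.congr ht.1.aevalEquivField
      (AlgEquiv.refl : K ≃ₐ[k] K)).symm.toMulEquiv.isDomain
  exact eq_zero_or_isNilpotent_aux K L F hL c z h

end Groth.EGA43Art
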