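import Groth.Agent.EGA43Art.Detect
import Groth.Agent.EGA43Art.Primary

/-!
Multiplication on `G ⊗[A] Q` by an element of `R ⊗[A] A'` whose image in the tensor product of the
residue fields is regular, for `Q` killed by the maximal ideal of `A`.
-/

set_option autoImplicit false
universe u

open TensorProduct IsLocalRing

namespace Groth.EGA43Art

section Mu

variable {A R A' : Type u} [CommRing A] [CommRing R] [Algebra A R] [CommRing A'] [Algebra A A']

variable (A R A') in
/-- The action of `R ⊗[A] A'` on `G ⊗[A] Q`. -/
noncomputable def mu (G Q : Type u) [AddCommGroup G] [Module A G] [Module R G] [IsScalarTower A R G]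
    [AddCommGroup Q] [Module A Q] [Module A' Q] [IsScalarTower A A' Q] :
    R ⊗[A] A' →ₗ[A] (G ⊗[A] Q →ₗ[A] G ⊗[A] Q) :=
  TensorProduct.homTensorHomMap (RingHom.id A) G Q G Q ∘ₗ TensorProduct.map
    (Algebra.lsmul A A G (A := R)).toLinearMap (Algebra.lsmul A A Q (A := A')).toLinearMap

variable {G Q : Type u} [AddCommGroup G] [Module A G] [Module R G] [IsScalarTower A R G]
    [AddCommGroup Q] [Module A Q] [Module A' Q] [IsScalarTower A A' Q]

@[simp] theorem mu_tmul (r : R) (a : A') (g : G) (e : Q) :
    mu A R A' G Q (r ⊗ₜ a) (g ⊗ₜ e) = (r • g) ⊗ₜ (a • e) := by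
  simp [mu]

theorem mu_natural {G' : Type u} [AddCommGroup G'] [Module A G'] [Module R G']
    [IsScalarTower A R G'] (l : G →ₗ[R] G') (c : R ⊗[A] A') (t : G ⊗[A] Q) :
    (l.restrictScalars A).rTensor Q (mu A R A' G Q c t) =
      mu A R A' G' Q c ((l.restrictScalars A).rTensor Q t) := by
  induction t using TensorProduct.induction_on with
  | zero => simp
  | tmul g e =>
    induction c using TensorProduct.induction_on with
    | zero => simp
    | tmul r a => simp
    | add x y hx hy => simp only [map_add, LinearMap.add_apply, hx, hy]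
  | add x y hx hy => simp only [map_add, hx, hy]

theorem mu_smul (c : R ⊗[A] A') (s : R) (t : G ⊗[A] Q) :
    mu A R A' G Q c (s • t) = s • mu A R A' G Q c t := by
  induction t using TensorProduct.induction_on with
  | zero => simp
  | tmul g e =>
    induction c using TensorProduct.induction_on with
    | zero => simp
    | tmul r a => simp [smul_tmul', smul_comm r s g]
    | add x y hx hy => simp only [map_add, LinearMap.add_apply, smul_add, hx, hy]
  | add x y hx hy => simp only [map_add, smul_add, hx, hy]

end Mu

/-- An injection of modules killed by the maximal ideal stays injective after tensoring. -/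
theorem rTensor_injective_of_killed {A : Type u} [CommRing A] [IsLocalRing A] {G G' Q : Type u}
    [AddCommGroup G] [Module A G] [AddCommGroup G'] [Module A G'] [AddCommGroup Q] [Module A Q]
    (hG : ∀ a ∈ maximalIdeal A, ∀ g : G', a • g = 0) (l : G →ₗ[A] G') (hl : Function.Injective l) :
    Function.Injective (l.rTensor Q) := by
  let _ : Field (A ⧸ maximalIdeal A) := Ideal.Quotient.field _
  have h' : Module.IsTorsionBySet A G' (maximalIdeal A : Set A) := fun g a => hG a a.2 g
  have h : Module.IsTorsionBySet A G (maximalIdeal A : Set A) := fun g a => hl (by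
    rw [map_smul, map_zero]; exact hG a a.2 _)
  let _ : Module (A ⧸ maximalIdeal A) G' := h'.module
  let _ : Module (A ⧸ maximalIdeal A) G := h.module
  let l' : G →ₗ[A ⧸ maximalIdeal A] G' :=
    { toFun := l
      map_add' := map_add l
      map_smul' := fun r g => by
        obtain ⟨r, rfl⟩ := Ideal.Quotient.mk_surjective r
        exact map_smul l r g }
  obtain ⟨ρ, hρ⟩ := l'.exists_leftInverse_of_injective (LinearMap.ker_eq_bot.2 hl)
  refine Function.LeftInverse.injective (g := (ρ.restrictScalars A).rTensor Q) fun t => ?_
  rw [← LinearMap.comp_apply, ← LinearMap.rTensor_comp]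
  have : ρ.restrictScalars A ∘ₗ l = LinearMap.id := LinearMap.ext fun g => LinearMap.congr_fun hρ g
  rw [this, LinearMap.rTensor_id]
  rfl

section Regular

variable {A R A' : Type u} [CommRing A] [IsLocalRing A] [CommRing R] [IsLocalRing R] [Algebra A R]
  [CommRing A'] [IsLocalRing A'] [Algebra A A']
  {k L K : Type u} [Field k] [Algebra A k] [Field L] [Algebra A L] [Algebra k L]
  [IsScalarTower A k L] [Algebra R L] [IsScalarTower A R L] [Field K] [Algebra A K] [Algebra k K]
  [IsScalarTower A k K] [Algebra A' K] [IsScalarTower A A' K]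

variable (A R A' k L K) in
/-- `R ⊗[A] A' → K ⊗[k] L`. -/
noncomputable def resMap : R ⊗[A] A' →ₐ[A] K ⊗[k] L :=
  Algebra.TensorProduct.lift
    (((Algebra.TensorProduct.includeRight : L →ₐ[k] K ⊗[k] L).restrictScalars A).comp
      (IsScalarTower.toAlgHom A R L))
    (((Algebra.TensorProduct.includeLeft : K →ₐ[k] K ⊗[k] L).restrictScalars A).comp
      (IsScalarTower.toAlgHom A A' K))
    fun _ _ => Commute.all _ _

theorem resMap_tmul (r : R) (a : A') :
    resMap A R A' k L K (r ⊗ₜ a) = algebraMap A' K a ⊗ₜ[k] algebraMap R L r := by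
  simp [resMap]

/-- The case of the residue field. -/
theorem mu_injective_residue (hk : Function.Surjective (algebraMap A k))
    (hk₀ : ∀ a ∈ maximalIdeal A, algebraMap A k a = 0)
    (hK : Function.Surjective (algebraMap A' K)) (c : R ⊗[A] A')
    (hc : ∀ w : K ⊗[k] L, resMap A R A' k L K c * w = 0 → w = 0)
    {Q : Type u} [AddCommGroup Q] [Module A Q] [Module A' Q] [IsScalarTower A A' Q]
    (hQ : ∀ a ∈ maximalIdeal A, ∀ e : Q, a • e = 0) (t : L ⊗[A] Q)
    (ht : mu A R A' L Q c t = 0) : t = 0 := by
  classical
  let I : Ideal A' := (maximalIdeal A).map (algebraMap A A')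
  have hI : I ≤ RingHom.ker (algebraMap A' K) := by
    rw [Ideal.map_le_iff_le_comap]
    intro a ha
    rw [Ideal.mem_comap, RingHom.mem_ker, ← IsScalarTower.algebraMap_apply,
      IsScalarTower.algebraMap_apply A k K, hk₀ a ha, map_zero]
  have hne : I ≠ ⊤ := fun h => by
    have := hI (show (1 : A') ∈ I by rw [h]; trivial)
    rw [RingHom.mem_ker, map_one] at this
    exact one_ne_zero this
  let R' := A' ⧸ I
  have : Nontrivial R' := Ideal.Quotient.nontrivial_iff.2 hne
  have : IsLocalRing R' := IsLocalRing.of_surjective' (Ideal.Quotient.mk I) Ideal.Quotient.mk_surjective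
  let res : R' →+* K := Ideal.Quotient.lift I (algebraMap A' K) hI
  have hres : Function.Surjective res := fun x => by
    obtain ⟨a, rfl⟩ := hK x
    exact ⟨Ideal.Quotient.mk I a, rfl⟩
  have htor : Module.IsTorsionBySet A' Q (I : Set A') := by
    rintro e ⟨a, ha⟩
    show a • e = 0
    refine Submodule.span_induction (p := fun a _ => a • e = 0) ?_ (zero_smul _ _)
      (fun x y _ _ hx hy => by rw [add_smul, hx, hy, add_zero])
      (fun r x _ hx => by rw [smul_eq_mul, mul_smul, hx, smul_zero]) ha
    rintro _ ⟨a, ha, rfl⟩
    rw [algebraMap_smul, hQ a ha]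
  let _ : Module R' Q := htor.module
  have : IsScalarTower A R' Q := IsScalarTower.of_algebraMap_smul fun a e => by
    show algebraMap A A' a • e = a • e
    rw [algebraMap_smul]
  -- `k` acts on `R'`
  let g₀ : {g : A →+* R' // RingHom.ker (algebraMap A k) ≤ RingHom.ker g} :=
    ⟨algebraMap A R', fun a ha => by
    rw [RingHom.mem_ker] at ha ⊢
    rw [IsScalarTower.algebraMap_apply A A' R']
    refine Ideal.Quotient.eq_zero_iff_mem.2 (Ideal.mem_map_of_mem _ ?_)
    by_contra hu
    rw [IsLocalRing.mem_maximalIdeal, mem_nonunits_iff, not_not] at hu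
    exact not_isUnit_zero (ha ▸ hu.map (algebraMap A k))⟩
  let ι₀ : k →+* R' := RingHom.liftOfSurjective (algebraMap A k) hk g₀
  let _ : Algebra k R' := ι₀.toAlgebra
  have : IsScalarTower A k R' := IsScalarTower.of_algebraMap_eq fun a => by
    show algebraMap A R' a = ι₀ (algebraMap A k a)
    exact (RingHom.liftOfRightInverse_comp_apply (algebraMap A k) (Function.surjInv hk)
      (Function.rightInverse_surjInv hk) g₀ a).symm
  let b := Module.Free.chooseBasis k L
  -- write `t` in the basis
  obtain ⟨s, q, rfl⟩ : ∃ (s : Finset (Module.Free.ChooseBasisIndex k L))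
      (q : Module.Free.ChooseBasisIndex k L → Q), t = ∑ i ∈ s, b i ⊗ₜ[A] q i := by
    clear ht
    induction t using TensorProduct.induction_on with
    | zero => exact ⟨∅, 0, by simp⟩
    | tmul l e =>
      choose g hg using fun i => hk (b.repr l i)
      refine ⟨(b.repr l).support, fun i => g i • e, ?_⟩
      conv_lhs => rw [← b.linearCombination_repr l]
      rw [Finsupp.linearCombination_apply, Finsupp.sum, sum_tmul]
      refine Finset.sum_congr rfl fun i _ => ?_
      rw [← hg i, algebraMap_smul, smul_tmul]
    | add x y hx hy =>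
      obtain ⟨s, q, rfl⟩ := hx
      obtain ⟨s', q', rfl⟩ := hy
      refine ⟨s ∪ s', fun i => (if i ∈ s then q i else 0) + (if i ∈ s' then q' i else 0), ?_⟩
      simp only [tmul_add, Finset.sum_add_distrib]
      congr 1
      · rw [← Finset.sum_filter_add_sum_filter_not (s ∪ s') (· ∈ s)]
        rw [Finset.filter_mem_eq_inter, Finset.union_inter_cancel_left]
        rw [Finset.sum_eq_zero (s := (s ∪ s').filter (· ∉ s)), add_zero]
        · exact Finset.sum_congr rfl fun i hi => by rw [if_pos hi]
        · intro i hi
          rw [if_neg (Finset.mem_filter.1 hi).2, tmul_zero]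
      · rw [← Finset.sum_filter_add_sum_filter_not (s ∪ s') (· ∈ s')]
        rw [Finset.filter_mem_eq_inter, Finset.union_inter_cancel_right]
        rw [Finset.sum_eq_zero (s := (s ∪ s').filter (· ∉ s')), add_zero]
        · exact Finset.sum_congr rfl fun i hi => by rw [if_pos hi]
        · intro i hi
          rw [if_neg (Finset.mem_filter.1 hi).2, tmul_zero]
  suffices hq : ∀ i ∈ s, q i = 0 from Finset.sum_eq_zero fun i hi => by rw [hq i hi, tmul_zero]
  -- functionals dual to the images of the basis
  let v : s → K ⊗[k] L := fun i => resMap A R A' k L K c * ((1 : K) ⊗ₜ[k] b i)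
  have hv : LinearIndependent K v := by
    have h1 : LinearIndependent K (fun i : s => (1 : K) ⊗ₜ[k] b i) := by
      have := (b.baseChange K).linearIndependent.comp ((↑) : s → _) Subtype.val_injective
      simpa [Function.comp_def] using this
    exact h1.map' (LinearMap.mulLeft K (resMap A R A' k L K c))
      (LinearMap.ker_eq_bot'.2 fun w hw => hc w hw)
  obtain ⟨Γ, hΓ⟩ := (Fintype.linearCombination K v).exists_leftInverse_of_injective
    (LinearMap.ker_eq_bot.2 (linearIndependent_iff_injective_fintypeLinearCombination.1 hv))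
  choose lift hlift using fun (l : s) (j : Module.Free.ChooseBasisIndex k L) =>
    hres (Γ ((1 : K) ⊗ₜ[k] b j) l)
  let f : s → L →ₗ[A] R' := fun l => (b.constr k (lift l)).restrictScalars A
  have hf : ∀ (l : s) (x : L), res (f l x) = Γ ((1 : K) ⊗ₜ[k] x) l := by
    intro l x
    have hsc : ∀ (r : k) (y : R'), res (r • y) = r • res y := by
      intro r y
      obtain ⟨a, rfl⟩ := hk r
      rw [algebraMap_smul, algebraMap_smul, Algebra.smul_def, Algebra.smul_def, map_mul]
      congr 1
      rw [IsScalarTower.algebraMap_apply A A' R', IsScalarTower.algebraMap_apply A A' K]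
      rfl
    have key : x ∈ Submodule.span k (Set.range b) := b.mem_span x
    induction key using Submodule.span_induction with
    | mem x hx =>
      obtain ⟨j, rfl⟩ := hx
      simp [f, hlift]
    | zero => simp
    | add x y _ _ hx hy => simp [tmul_add, hx, hy]
    | smul r x _ hx =>
      have h1 : f l (r • x) = r • f l x := (b.constr k (lift l)).map_smul r x
      have h2 : Γ ((1 : K) ⊗ₜ[k] (r • x)) l = r • Γ ((1 : K) ⊗ₜ[k] x) l := by
        rw [tmul_smul, ← algebraMap_smul K r, map_smul, Pi.smul_apply, algebraMap_smul]
      rw [h1, hsc, hx, h2]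
  let Λ : ∀ (l : s) (x : L), R ⊗[A] A' →ₗ[A] R' := fun l x =>
    TensorProduct.lift (LinearMap.mk₂ A (fun r a => Ideal.Quotient.mk I a * f l (r • x))
      (fun r r' a => by simp [add_smul, mul_add])
      (fun m r a => by rw [smul_assoc, map_smul, mul_smul_comm])
      (fun r a a' => by simp [add_mul])
      (fun m r a => by
        rw [← Ideal.Quotient.mkₐ_eq_mk A, map_smul, smul_mul_assoc]))
  have hFmu : ∀ (l : s) (x : L) (e : Q) (d : R ⊗[A] A'),
      TensorProduct.lift ((LinearMap.lsmul R' Q).restrictScalars₁₂ A A ∘ₗ f l)
        (mu A R A' L Q d (x ⊗ₜ e)) = Λ l x d • e := by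
    intro l x e d
    induction d using TensorProduct.induction_on with
    | zero => simp
    | tmul r a =>
      rw [mu_tmul, TensorProduct.lift.tmul]
      show f l (r • x) • (a • e) = (Ideal.Quotient.mk I a * f l (r • x)) • e
      rw [mul_comm, mul_smul]
      rfl
    | add y z hy hz => simp only [map_add, LinearMap.add_apply, hy, hz, add_smul]
  have hΛres : ∀ (l : s) (x : L) (d : R ⊗[A] A'),
      res (Λ l x d) = Γ (resMap A R A' k L K d * ((1 : K) ⊗ₜ[k] x)) l := by
    intro l x d
    induction d using TensorProduct.induction_on with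
    | zero => simp
    | tmul r a =>
      show res (Ideal.Quotient.mk I a * f l (r • x)) = _
      rw [map_mul, hf, resMap_tmul, Algebra.TensorProduct.tmul_mul_tmul, mul_one,
        ← Algebra.smul_def (R := R) r x]
      have h1 : algebraMap A' K a ⊗ₜ[k] (r • x) = algebraMap A' K a • ((1 : K) ⊗ₜ[k] (r • x)) := by
        rw [smul_tmul', smul_eq_mul, mul_one]
      rw [h1, map_smul, Pi.smul_apply, smul_eq_mul]
      rfl
    | add y z hy hz => simp only [map_add, add_mul, Pi.add_apply, hy, hz]
  let a : Matrix s s R' := Matrix.of fun l i => Λ l (b i) c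
  have hunit : IsUnit a := by
    rw [Matrix.isUnit_iff_isUnit_det]
    have h1 : res a.det = 1 := by
      rw [RingHom.map_det]
      have : res.mapMatrix a = 1 := by
        ext l i
        rw [RingHom.mapMatrix_apply, Matrix.map_apply]
        show res (Λ l (b i) c) = _
        rw [hΛres]
        have h2 := congrFun (LinearMap.congr_fun hΓ (Pi.single i 1)) l
        rw [LinearMap.comp_apply, Fintype.linearCombination_apply_single, one_smul,
          LinearMap.id_apply] at h2
        rw [h2, Matrix.one_apply, Pi.single_apply]
      rw [this, Matrix.det_one]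
    by_contra hnu
    have hmem : a.det ∈ maximalIdeal R' := hnu
    have hker : RingHom.ker res ≤ maximalIdeal R' := IsLocalRing.le_maximalIdeal (by
      intro h
      have := (RingHom.mem_ker (f := res)).1 (show (1 : R') ∈ RingHom.ker res by rw [h]; trivial)
      rw [map_one] at this
      exact one_ne_zero this)
    have h1' : a.det - 1 ∈ maximalIdeal R' := hker (by rw [RingHom.mem_ker, map_sub, h1, map_one, sub_self])
    have : (1 : R') ∈ maximalIdeal R' := by
      simpa using (maximalIdeal R').sub_mem hmem h1'
    exact (maximalIdeal.isMaximal R').ne_top ((Ideal.eq_top_iff_one _).2 this)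
  have heq : ∀ l : s, ∑ i : s, a l i • q i = 0 := by
    intro l
    have h1 := congrArg (TensorProduct.lift ((LinearMap.lsmul R' Q).restrictScalars₁₂ A A ∘ₗ f l)) ht
    simp only [map_sum, map_zero] at h1
    rw [← Finset.sum_coe_sort] at h1
    refine Eq.trans ?_ h1
    exact Finset.sum_congr rfl fun i _ => (hFmu l (b i) (q i) c).symm
  obtain ⟨a', ha'⟩ := hunit.exists_left_inv
  intro i hi
  have h3 : ∑ l : s, a' ⟨i, hi⟩ l • ∑ j : s, a l j • q j = q i := by
    simp only [Finset.smul_sum, smul_smul]
    rw [Finset.sum_comm]
    simp only [← Finset.sum_smul, ← Matrix.mul_apply, ha', Matrix.one_apply, ite_smul, one_smul,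
      zero_smul, Finset.sum_ite_eq, Finset.mem_univ, if_true]
  rw [← h3]
  exact Finset.sum_eq_zero fun l _ => by rw [heq l, smul_zero]

/-- Finite modules. -/
theorem mu_injective [IsNoetherianRing R] (hk : Function.Surjective (algebraMap A k))
    (hk₀ : ∀ a ∈ maximalIdeal A, algebraMap A k a = 0)
    (hR : Function.Surjective (algebraMap R L)) (hK : Function.Surjective (algebraMap A' K))
    (c : R ⊗[A] A') (hc : ∀ w : K ⊗[k] L, resMap A R A' k L K c * w = 0 → w = 0)
    {M : Type u} [AddCommGroup M] [Module A M] [Module R M] [IsScalarTower A R M] [Module.Finite R M]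
    {Q : Type u} [AddCommGroup Q] [Module A Q] [Module A' Q] [IsScalarTower A A' Q]
    (hQ : ∀ a ∈ maximalIdeal A, ∀ e : Q, a • e = 0) (t : M ⊗[A] Q)
    (ht : mu A R A' M Q c t = 0) : t = 0 := by
  classical
  have hkerL : RingHom.ker (algebraMap R L) = maximalIdeal R :=
    IsLocalRing.eq_maximalIdeal (RingHom.ker_isMaximal_of_surjective _ hR)
  -- modules killed by a power of the maximal ideal and by the maximal ideal of `A`
  have key : ∀ (n : ℕ) (G : Type u) [AddCommGroup G] [Module A G] [Module R G]
      [IsScalarTower A R G], (∀ r ∈ maximalIdeal R ^ n, ∀ g : G, r • g = 0) →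
      (∀ a ∈ maximalIdeal A, ∀ g : G, a • g = 0) →
      ∀ t : G ⊗[A] Q, mu A R A' G Q c t = 0 → t = 0 := by
    intro n
    induction n with
    | zero =>
      intro G _ _ _ _ hn _ t _
      have : Subsingleton G := subsingleton_of_forall_eq 0 fun g => by
        simpa using hn 1 (by simp) g
      exact Subsingleton.elim _ _
    | succ n ih =>
      intro G _ _ _ _ hn hm t ht
      let G' : Submodule R G := maximalIdeal R ^ n • ⊤
      have hq : (G'.mkQ.restrictScalars A).rTensor Q t = 0 := by
        refine ih (G ⧸ G') ?_ ?_ _ ?_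
        · intro r hr g
          obtain ⟨g, rfl⟩ := Submodule.Quotient.mk_surjective _ g
          rw [← Submodule.Quotient.mk_smul, Submodule.Quotient.mk_eq_zero]
          exact Submodule.smul_mem_smul hr Submodule.mem_top
        · intro a ha g
          obtain ⟨g, rfl⟩ := Submodule.Quotient.mk_surjective _ g
          rw [← Submodule.Quotient.mk_smul, hm a ha, Submodule.Quotient.mk_zero]
        · rw [← mu_natural, ht, map_zero]
      have hex : Function.Exact (G'.subtype.restrictScalars A) (G'.mkQ.restrictScalars A) :=
        LinearMap.exact_subtype_mkQ G'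
      obtain ⟨t', rfl⟩ := (rTensor_exact Q hex (Submodule.mkQ_surjective G') t).1 hq
      -- `G'` is a vector space over the residue field
      have hG' : ∀ r ∈ maximalIdeal R, ∀ g : G', r • g = 0 := by
        rintro r hr ⟨g, hg⟩
        apply Subtype.ext
        show r • g = 0
        refine Submodule.smul_induction_on hg (fun x hx y _ => ?_) fun x y hx hy => ?_
        · rw [smul_smul]
          exact hn _ (by rw [pow_succ']; exact Ideal.mul_mem_mul hr hx) y
        · rw [smul_add, hx, hy, add_zero]
      have ht' : mu A R A' G' Q c t' = 0 := by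
        apply rTensor_injective_of_killed hm (G'.subtype.restrictScalars A) Subtype.val_injective
        rw [map_zero, mu_natural, ht]
      let ρ : L →+* Module.End R G' :=
        RingHom.liftOfSurjective (algebraMap R L) hR ⟨algebraMap R (Module.End R G'), fun r hr => by
          rw [RingHom.mem_ker]
          refine LinearMap.ext fun g => ?_
          exact hG' r (hkerL ▸ hr) g⟩
      have hρ : ∀ r : R, ρ (algebraMap R L r) = algebraMap R (Module.End R G') r := fun r =>
        RingHom.liftOfRightInverse_comp_apply _ _ (Function.rightInverse_surjInv hR) _ r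
      let _ : Module L G' :=
        { smul := fun x g => ρ x g
          one_smul := fun g => by show ρ 1 g = g; rw [map_one]; rfl
          mul_smul := fun x y g => by show ρ (x * y) g = ρ x (ρ y g); rw [map_mul]; rfl
          smul_zero := fun x => map_zero (ρ x)
          smul_add := fun x g g' => map_add (ρ x) g g'
          add_smul := fun x y g => by show ρ (x + y) g = ρ x g + ρ y g; rw [map_add]; rfl
          zero_smul := fun g => by show ρ 0 g = 0; rw [map_zero]; rfl }
      have : IsScalarTower R L G' := IsScalarTower.of_algebraMap_smul fun r g => by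
        show ρ (algebraMap R L r) g = r • g
        rw [hρ]; rfl
      let b := Module.Free.chooseBasis L G'
      suffices h0 : ((b.repr.restrictScalars R).toLinearMap.restrictScalars A).rTensor Q t' = 0 by
        have := (((b.repr.restrictScalars R).restrictScalars A).rTensor Q).injective
          (h0.trans (map_zero _).symm)
        rw [this, map_zero]
      apply (TensorProduct.finsuppLeft A A L Q _).injective
      rw [map_zero]
      ext j
      refine mu_injective_residue (R := R) (A' := A') hk hk₀ hK c hc hQ _ ?_
      have hnat : ∀ w : G' ⊗[A] Q, TensorProduct.finsuppLeft A A L Q _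
          (((b.repr.restrictScalars R).toLinearMap.restrictScalars A).rTensor Q w) j =
            (((b.coord j).restrictScalars R).restrictScalars A).rTensor Q w := by
        intro w
        induction w using TensorProduct.induction_on with
        | zero => simp
        | tmul g e => simp [TensorProduct.finsuppLeft_apply_tmul_apply]
        | add x y hx hy => simp only [map_add, Finsupp.add_apply, hx, hy]
      rw [hnat, ← mu_natural, ht', map_zero]
  -- Krull intersection
  have hmem : ∀ n : ℕ, t ∈ maximalIdeal R ^ n • (⊤ : Submodule R (M ⊗[A] Q)) := by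
    intro n
    let J : Ideal R := maximalIdeal R ^ n ⊔ (maximalIdeal A).map (algebraMap A R)
    let M' : Submodule R M := J • ⊤
    have hq : (M'.mkQ.restrictScalars A).rTensor Q t = 0 := by
      refine key n (M ⧸ M') ?_ ?_ _ (by rw [← mu_natural, ht, map_zero])
      · intro r hr g
        obtain ⟨g, rfl⟩ := Submodule.Quotient.mk_surjective _ g
        rw [← Submodule.Quotient.mk_smul, Submodule.Quotient.mk_eq_zero]
        exact Submodule.smul_mem_smul (Ideal.mem_sup_left hr) Submodule.mem_top
      · intro a ha g
        obtain ⟨g, rfl⟩ := Submodule.Quotient.mk_surjective _ g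
        rw [← Submodule.Quotient.mk_smul, Submodule.Quotient.mk_eq_zero, ← algebraMap_smul R a g]
        exact Submodule.smul_mem_smul (Ideal.mem_sup_right (Ideal.mem_map_of_mem _ ha))
          Submodule.mem_top
    have hex : Function.Exact (M'.subtype.restrictScalars A) (M'.mkQ.restrictScalars A) :=
      LinearMap.exact_subtype_mkQ M'
    obtain ⟨t', rfl⟩ := (rTensor_exact Q hex (Submodule.mkQ_surjective M') t).1 hq
    clear ht hq
    induction t' using TensorProduct.induction_on with
    | zero => simp
    | add x y hx hy => rw [map_add]; exact Submodule.add_mem _ hx hy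
    | tmul g e =>
      obtain ⟨g, hg⟩ := g
      show g ⊗ₜ[A] e ∈ _
      refine Submodule.smul_induction_on hg (fun r hr y _ => ?_) fun x y hx hy => ?_
      · rw [← smul_tmul']
        obtain ⟨r₁, hr₁, r₂, hr₂, rfl⟩ := Submodule.mem_sup.1 hr
        rw [add_smul]
        refine Submodule.add_mem _ (Submodule.smul_mem_smul hr₁ Submodule.mem_top) ?_
        suffices h0 : r₂ • (y ⊗ₜ[A] e) = 0 by rw [h0]; exact Submodule.zero_mem _
        refine Submodule.span_induction (p := fun r _ => r • (y ⊗ₜ[A] e) = 0) ?_ (zero_smul _ _)
          (fun x x' _ _ hx hx' => by rw [add_smul, hx, hx', add_zero])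
          (fun r x _ hx => by rw [smul_eq_mul, mul_smul, hx, smul_zero]) hr₂
        rintro _ ⟨a, ha, rfl⟩
        rw [algebraMap_smul, ← tmul_smul, hQ a ha, tmul_zero]
      · rw [add_tmul]; exact Submodule.add_mem _ hx hy
  let k' := A ⧸ maximalIdeal A
  let _ : Field k' := Ideal.Quotient.field _
  have htor : Module.IsTorsionBySet A Q (maximalIdeal A : Set A) := fun e a => hQ a a.2 e
  let _ : Module k' Q := htor.module
  let bQ := Module.Free.chooseBasis k' Q
  let r : Q ≃ₗ[A] (Module.Free.ChooseBasisIndex k' Q →₀ k') := bQ.repr.restrictScalars A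
  let φ : M ⊗[A] Q →ₗ[R] (Module.Free.ChooseBasisIndex k' Q →₀ M ⊗[A] k') :=
    (TensorProduct.finsuppRight A R M k' _).toLinearMap ∘ₗ
      TensorProduct.AlgebraTensorModule.lTensor R M r.toLinearMap
  have hφ : Function.Injective φ := by
    rw [LinearMap.coe_comp, LinearEquiv.coe_coe]
    exact (LinearEquiv.injective _).comp (r.lTensor M).injective
  apply hφ
  rw [map_zero]
  ext j
  have : Module.Finite R (M ⊗[A] k') :=
    Module.Finite.of_surjective
      (TensorProduct.AlgebraTensorModule.lTensor R M (Algebra.linearMap A k') ∘ₗ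
        (TensorProduct.AlgebraTensorModule.rid A R M).symm.toLinearMap)
      (by
        rw [LinearMap.coe_comp, LinearEquiv.coe_coe]
        exact (show Function.Surjective (TensorProduct.AlgebraTensorModule.lTensor R M
          (Algebra.linearMap A k')) from LinearMap.lTensor_surjective (R := A) M
            (g := Algebra.linearMap A k') Ideal.Quotient.mk_surjective).comp
          (LinearEquiv.surjective _))
  have hmem' : φ t j ∈ ⨅ n : ℕ, maximalIdeal R ^ n • (⊤ : Submodule R (M ⊗[A] k')) := by
    rw [Submodule.mem_iInf]
    intro n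
    refine Submodule.smul_induction_on
      (p := fun v => φ v j ∈ maximalIdeal R ^ n • (⊤ : Submodule R (M ⊗[A] k'))) (hmem n)
      (fun s hs v _ => ?_) (fun v v' hv hv' => ?_)
    · rw [map_smul, Finsupp.smul_apply]
      exact Submodule.smul_mem_smul hs Submodule.mem_top
    · rw [map_add, Finsupp.add_apply]
      exact Submodule.add_mem _ hv hv'
  have hbot := Ideal.iInf_pow_smul_eq_bot_of_le_jacobson (M := M ⊗[A] k') (maximalIdeal R)
    (maximalIdeal_le_jacobson _)
  rw [Finsupp.zero_apply]
  exact (Submodule.mem_bot R).1 (hbot.le hmem')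

end Regular

end Groth.EGA43Art
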