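import Groth.Agent.EGA43Art.Over
import Groth.Agent.EGA43Art.Single

/-!
Detection at a single point over `x` when the residue extension at `x` is primary.
-/

set_option autoImplicit false
universe u

open TensorProduct IsLocalRing

namespace Groth.EGA43Art

/-- A tensor with a module killed by the maximal ideal vanishes near `x` as soon as it vanishes at
one point over `x` and over the closed point of a local algebra, if `A ⧸ m` is separably closed in
the residue field at `x`. -/
theorem detect_point {A R A' P : Type u} [CommRing A] [IsLocalRing A] [IsArtinianRing A] [CommRing R]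
    [IsNoetherianRing R] [Algebra A R] [CommRing A'] [IsLocalRing A'] [Algebra A A'] [CommRing P]
    [Algebra R P] [Algebra A' P] [Algebra A P] [IsScalarTower A R P] [IsScalarTower A A' P]
    [Algebra.IsPushout A A' R P] (x : Ideal R) [x.IsPrime]
    (hprim : ∀ z : x.ResidueField, (∃ g : Polynomial A,
        (g.map (Ideal.Quotient.mk (maximalIdeal A))).Separable ∧ Polynomial.aeval z g = 0) →
      ∃ a : A, algebraMap A x.ResidueField a = z)
    {M : Type u} [AddCommGroup M] [Module R M] [Module A M] [IsScalarTower A R M] [Module.Finite R M]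
    {Mx : Type u} [AddCommGroup Mx] [Module R Mx] [Module A Mx] [IsScalarTower A R Mx]
    [Module (Localization.AtPrime x) Mx] [IsScalarTower R (Localization.AtPrime x) Mx]
    (loc : M →ₗ[R] Mx) [IsLocalizedModule x.primeCompl loc]
    (q : Ideal P) [q.IsPrime] (hq : q.comap (algebraMap R P) = x)
    (hq' : q.comap (algebraMap A' P) = maximalIdeal A')
    {Nq : Type u} [AddCommGroup Nq] [Module P Nq] [Module A' Nq] [IsScalarTower A' P Nq]
    [Module A Nq] [IsScalarTower A A' Nq]
    (ν : P ⊗[R] M →ₗ[P] Nq) [IsLocalizedModule q.primeCompl ν]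
    (ψ : Mx →ₗ[A] Nq) (hψR : ∀ (r : R) (y : Mx), ψ (r • y) = algebraMap R P r • ψ y)
    (hψ : ∀ m, ψ (loc m) = ν ((1 : P) ⊗ₜ m))
    {Q : Type u} [AddCommGroup Q] [Module A' Q] [Module A Q] [IsScalarTower A A' Q]
    (hQ : ∀ a ∈ maximalIdeal A, ∀ e : Q, a • e = 0)
    (w : Mx ⊗[A] Q) (hw : chi (A' := A') ψ w = 0) : w = 0 := by
  classical
  let Rx := Localization.AtPrime x
  have : IsScalarTower A Rx Mx := IsScalarTower.of_algebraMap_smul fun a m => by
    rw [IsScalarTower.algebraMap_apply A R Rx, algebraMap_smul, algebraMap_smul]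
  have : Module.Finite Rx Mx := Module.Finite.of_isLocalizedModule x.primeCompl loc
  obtain ⟨⟨t, ⟨s, hs⟩⟩, hst⟩ := IsLocalizedModule.surj x.primeCompl
    (TensorProduct.AlgebraTensorModule.rTensor A Q loc) w
  have hst' : s • w = TensorProduct.AlgebraTensorModule.rTensor A Q loc t := hst
  let g : P ⊗[R] M ≃ₗ[A'] A' ⊗[A] M := Algebra.IsPushout.cancelBaseChange A A' R P M
  let e : (P ⊗[R] M) ⊗[A'] Q ≃ₗ[A] M ⊗[A] Q :=
    ((g.rTensor Q).restrictScalars A) ≪≫ₗ
      (TensorProduct.comm A' (A' ⊗[A] M) Q).restrictScalars A ≪≫ₗ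
      (TensorProduct.AlgebraTensorModule.cancelBaseChange A A' A' Q M).restrictScalars A ≪≫ₗ
      (TensorProduct.comm A Q M)
  let θ : M →ₗ[A] P ⊗[R] M := (TensorProduct.mk R P M 1).restrictScalars A
  have heθ : ∀ v, e (chi (A' := A') θ v) = v := by
    intro v
    induction v using TensorProduct.induction_on with
    | zero => simp
    | tmul m a => simp [e, g, θ, Algebra.IsPushout.cancelBaseChange_tmul]
    | add a b ha hb => rw [map_add, map_add, ha, hb]
  let T := chi (A' := A') θ t
  -- `T` is killed outside `q`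
  have h0 : TensorProduct.AlgebraTensorModule.rTensor A' Q ν T = 0 := by
    have hnat : ∀ v, TensorProduct.AlgebraTensorModule.rTensor A' Q ν (chi (A' := A') θ v) =
        chi (A' := A') ψ (TensorProduct.AlgebraTensorModule.rTensor A Q loc v) := by
      intro v
      induction v using TensorProduct.induction_on with
      | zero => simp
      | tmul m a => simp [θ, hψ]
      | add a b ha hb => simp only [map_add, ha, hb]
    have hsv : ∀ v : Mx ⊗[A] Q, chi (A' := A') ψ (s • v) =
        algebraMap R P s • chi (A' := A') ψ v := by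
      intro v
      induction v using TensorProduct.induction_on with
      | zero => simp
      | tmul m a => rw [smul_tmul', chi_tmul, chi_tmul, smul_tmul', hψR]
      | add a b ha hb => simp only [smul_add, map_add, ha, hb]
    rw [hnat, ← hst', hsv, hw, smul_zero]
  have : IsLocalizedModule q.primeCompl (TensorProduct.AlgebraTensorModule.rTensor A' Q ν) :=
    inferInstance
  obtain ⟨⟨c, hc⟩, hct⟩ := (IsLocalizedModule.eq_zero_iff q.primeCompl
    (TensorProduct.AlgebraTensorModule.rTensor A' Q ν)).1 h0
  have hct' : c • T = 0 := hct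
  -- the corresponding element of `R ⊗[A] A'`
  have : Algebra.IsPushout A R A' P := Algebra.IsPushout.symm inferInstance
  let eP : R ⊗[A] A' ≃ₐ[R] P := Algebra.IsPushout.equiv A R A' P
  obtain ⟨c₀, rfl⟩ := eP.surjective c
  have hePt : ∀ (r : R) (a : A'), eP (r ⊗ₜ a) = algebraMap R P r * algebraMap A' P a := fun r a => by
    simp [eP, Algebra.IsPushout.equiv_tmul]
  have hμ : ∀ (d : R ⊗[A] A') (v : M ⊗[A] Q),
      eP d • chi (A' := A') θ v = chi (A' := A') θ (mu A R A' M Q d v) := by
    intro d v
    induction v using TensorProduct.induction_on with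
    | zero => simp
    | tmul m u =>
      induction d using TensorProduct.induction_on with
      | zero => simp
      | tmul r a =>
        rw [mu_tmul, chi_tmul, chi_tmul, smul_tmul', hePt, mul_smul, algebraMap_smul P a,
          smul_comm (algebraMap R P r) a, algebraMap_smul, smul_tmul (R := A') a]
        simp [θ]
      | add y z hy hz => simp only [map_add, add_smul, LinearMap.add_apply, hy, hz]
    | add y z hy hz => simp only [map_add, smul_add, hy, hz]
  have hμ0 : mu A R A' M Q c₀ t = 0 := by
    rw [← heθ (mu A R A' M Q c₀ t), ← hμ, hct', map_zero]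
  -- localize at `x`
  let φ : R ⊗[A] A' →ₐ[A] Rx ⊗[A] A' :=
    Algebra.TensorProduct.map (IsScalarTower.toAlgHom A R Rx) (AlgHom.id A A')
  have hμx : ∀ (d : R ⊗[A] A') (v : M ⊗[A] Q),
      TensorProduct.AlgebraTensorModule.rTensor A Q loc (mu A R A' M Q d v) =
        mu A Rx A' Mx Q (φ d) (TensorProduct.AlgebraTensorModule.rTensor A Q loc v) := by
    intro d v
    induction v using TensorProduct.induction_on with
    | zero => simp
    | tmul m u =>
      induction d using TensorProduct.induction_on with
      | zero => simp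
      | tmul r a => simp [φ, algebraMap_smul]
      | add y z hy hz => simp only [map_add, LinearMap.add_apply, hy, hz]
    | add y z hy hz => simp only [map_add, hy, hz]
  -- the residue fields
  let k := A ⧸ maximalIdeal A
  let _ : Field k := Ideal.Quotient.field _
  let L := x.ResidueField
  let K := IsLocalRing.ResidueField A'
  have hmx : (maximalIdeal A).map (algebraMap A R) ≤ x := Ideal.map_le_iff_le_comap.2
    ((IsLocalRing.eq_maximalIdeal (IsArtinianRing.isMaximal_of_isPrime
      (x.comap (algebraMap A R)))).ge)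
  have hmA' : ∀ a ∈ maximalIdeal A, algebraMap A A' a ∈ maximalIdeal A' := fun a ha => by
    obtain ⟨n, hn⟩ := IsArtinianRing.isNilpotent_jacobson_bot (R := A)
    rw [IsLocalRing.jacobson_eq_maximalIdeal ⊥ bot_ne_top] at hn
    refine (maximalIdeal.isMaximal A').isPrime.mem_of_pow_mem n ?_
    rw [← map_pow]
    have : a ^ n ∈ (0 : Ideal A) := hn ▸ Ideal.pow_mem_pow ha n
    rw [Ideal.zero_eq_bot, Ideal.mem_bot] at this
    rw [this, map_zero]
    exact Ideal.zero_mem _
  have hL0 : ∀ a ∈ maximalIdeal A, algebraMap A L a = 0 := fun a ha => by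
    rw [IsScalarTower.algebraMap_apply A R L, Ideal.algebraMap_residueField_eq_zero]
    exact hmx (Ideal.mem_map_of_mem _ ha)
  have hK0 : ∀ a ∈ maximalIdeal A, algebraMap A K a = 0 := fun a ha => by
    rw [IsScalarTower.algebraMap_apply A A' K]
    exact (IsLocalRing.residue_eq_zero_iff _).2 (hmA' a ha)
  let _ : Algebra k L := (Ideal.Quotient.lift _ (algebraMap A L) hL0).toAlgebra
  let _ : Algebra k K := (Ideal.Quotient.lift _ (algebraMap A K) hK0).toAlgebra
  have : IsScalarTower A k L := IsScalarTower.of_algebraMap_eq fun _ => rfl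
  have : IsScalarTower A k K := IsScalarTower.of_algebraMap_eq fun _ => rfl
  have hk : Function.Surjective (algebraMap A k) := Ideal.Quotient.mk_surjective
  have hsep : ∀ z : L, IsSeparable k z → z ∈ Set.range (algebraMap k L) := fun z hz => by
    obtain ⟨g₀, hg₀⟩ := Polynomial.map_surjective (algebraMap A k) hk (minpoly k z)
    obtain ⟨a, ha⟩ := hprim z ⟨g₀, by
      rw [show g₀.map (Ideal.Quotient.mk (maximalIdeal A)) = minpoly k z from hg₀]; exact hz, by
      rw [← Polynomial.aeval_map_algebraMap k z g₀, hg₀, minpoly.aeval]⟩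
    exact ⟨algebraMap A k a, ha⟩
  -- the image of `c₀` in `K ⊗ L` is not nilpotent
  let ρ := resMap A Rx A' k L K
  have hnil : ¬ IsNilpotent (ρ (φ c₀)) := by
    rintro ⟨n, hn⟩
    rw [← map_pow, ← map_pow] at hn
    let π₀ : R ⊗[A] A' →ₐ[A] (R ⧸ x) ⊗[A] K :=
      Algebra.TensorProduct.map (Ideal.Quotient.mkₐ A x) (IsScalarTower.toAlgHom A A' K)
    have hqR : ∀ r ∈ x, Ideal.Quotient.mk q (algebraMap R P r) = 0 := fun r hr =>
      Ideal.Quotient.eq_zero_iff_mem.2 (Ideal.mem_comap.1 (hq.ge hr))
    have hqA : ∀ a ∈ maximalIdeal A', Ideal.Quotient.mk q (algebraMap A' P a) = 0 := fun a ha =>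
      Ideal.Quotient.eq_zero_iff_mem.2 (Ideal.mem_comap.1 (hq'.ge ha))
    let θR : (R ⧸ x) →ₐ[A] P ⧸ q :=
      Ideal.Quotient.liftₐ x ((Ideal.Quotient.mkₐ A q).comp (IsScalarTower.toAlgHom A R P)) hqR
    let θK : K →ₐ[A] P ⧸ q :=
      Ideal.Quotient.liftₐ (maximalIdeal A')
        ((Ideal.Quotient.mkₐ A q).comp (IsScalarTower.toAlgHom A A' P)) hqA
    let θD : (R ⧸ x) ⊗[A] K →ₐ[A] P ⧸ q :=
      Algebra.TensorProduct.lift θR θK fun _ _ => Commute.all _ _
    have hθ : ∀ d, θD (π₀ d) = Ideal.Quotient.mk q (eP d) := by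
      intro d
      induction d using TensorProduct.induction_on with
      | zero => simp
      | tmul r a =>
        rw [hePt, map_mul]
        simp only [π₀, θD, Algebra.TensorProduct.map_tmul, Algebra.TensorProduct.lift_tmul]
        rfl
      | add y z hy hz => simp only [map_add, hy, hz]
    have : TensorProduct.CompatibleSMul A k K L := ⟨fun r a b => by
      obtain ⟨r, rfl⟩ := hk r
      rw [algebraMap_smul, algebraMap_smul, smul_tmul]⟩
    let incl : (R ⧸ x) →ₐ[A] L :=
      Ideal.Quotient.liftₐ x (IsScalarTower.toAlgHom A R L) fun r hr =>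
        Ideal.algebraMap_residueField_eq_zero.2 hr
    have hincl : Function.Injective incl := by
      rw [injective_iff_map_eq_zero]
      intro r hr
      obtain ⟨r, rfl⟩ := Ideal.Quotient.mk_surjective r
      exact Ideal.Quotient.eq_zero_iff_mem.2 (Ideal.algebraMap_residueField_eq_zero.1 hr)
    let ι : (R ⧸ x) ⊗[A] K →ₗ[A] K ⊗[k] L :=
      ((TensorProduct.equivOfCompatibleSMul A k A K L).symm.toLinearMap) ∘ₗ
        (TensorProduct.comm A L K).toLinearMap ∘ₗ incl.toLinearMap.rTensor K
    have hι : Function.Injective ι := by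
      simp only [ι, LinearMap.coe_comp, LinearEquiv.coe_coe]
      exact (LinearEquiv.injective _).comp ((LinearEquiv.injective _).comp
        (rTensor_injective_of_killed (fun a ha l => by
          rw [Algebra.smul_def, hL0 a ha, zero_mul]) _ hincl))
    have hρ : ∀ d, ρ (φ d) = ι (π₀ d) := by
      intro d
      induction d using TensorProduct.induction_on with
      | zero => simp
      | tmul r a =>
        simp only [ρ, φ, π₀, ι, incl, Algebra.TensorProduct.map_tmul, resMap_tmul,
          IsScalarTower.coe_toAlgHom', AlgHom.coe_id, id_eq, LinearMap.coe_comp,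
          LinearEquiv.coe_coe, Function.comp_apply, LinearMap.rTensor_tmul,
          TensorProduct.comm_tmul]
        rw [← IsScalarTower.algebraMap_apply R Rx L]
        rfl
      | add y z hy hz => simp only [map_add, hy, hz]
    rw [hρ] at hn
    have h1 : π₀ (c₀ ^ n) = 0 := hι (hn.trans (map_zero _).symm)
    have h2 := hθ (c₀ ^ n)
    rw [h1, map_zero, map_pow] at h2
    exact hc (‹q.IsPrime›.mem_of_pow_mem n (Ideal.Quotient.eq_zero_iff_mem.1 h2.symm))
  have hreg : ∀ v : K ⊗[k] L, ρ (φ c₀) * v = 0 → v = 0 := by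
    intro v hv
    let cm := Algebra.TensorProduct.comm k K L
    rcases eq_zero_or_isNilpotent_of_mul_eq_zero K L hsep (cm (ρ (φ c₀))) (cm v)
      (by rw [← map_mul, hv, map_zero]) with h | h
    · exact cm.injective (h.trans (map_zero _).symm)
    · refine absurd ?_ hnil
      have := h.map cm.symm
      rwa [cm.symm_apply_apply] at this
  have : IsNoetherianRing Rx := IsLocalization.isNoetherianRing x.primeCompl Rx inferInstance
  have hsw : s • w = 0 := by
    refine mu_injective (R := Rx) (k := k) (L := L) (K := K) hk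
      (fun a ha => Ideal.Quotient.eq_zero_iff_mem.2 ha) Ideal.Quotient.mk_surjective
      Ideal.Quotient.mk_surjective (φ c₀) hreg hQ (s • w) ?_
    rw [hst', ← hμx, hμ0, map_zero]
  exact ((Module.End.isUnit_iff _).1 (IsLocalizedModule.map_units
    (TensorProduct.AlgebraTensorModule.rTensor A Q loc) (⟨s, hs⟩ : x.primeCompl))).1
      (show s • w = s • 0 by rw [hsw, smul_zero])

end Groth.EGA43Art
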