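import Groth.Agent.EGA43Art.Scheme
import Groth.Agent.EGA43Art.Point
import Groth.Agent.EGA43Sep.Geom
import Groth.Agent.QCohMod.FiniteType

/-!
Flatness over an Artinian local base descends along a schematically dominant family of base changes.
-/

set_option autoImplicit false
set_option backward.isDefEq.respectTransparency.types false
universe u

open CategoryTheory Limits AlgebraicGeometry Opposite TopologicalSpace TensorProduct

namespace Groth.EGA43Art

open Groth.QCohMod (sectionsAlg stalkModule germₗ isLocalizedModule_germ pullSecEquiv)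
open Groth.EGA43Sep (prodOpen prodOpen_le isAffineOpen_prodOpen)

variable {X S S' : Scheme.{u}} (p : X ⟶ S) (q : S' ⟶ S) {U : X.Opens} {V : S.Opens} {W : S'.Opens}
  (e₁ : U ≤ p ⁻¹ᵁ V) (e₂ : W ≤ q ⁻¹ᵁ V)

theorem detect_pointScheme (hV : IsAffineOpen V) (hW : IsAffineOpen W) (hU : IsAffineOpen U)
    [IsArtinianRing Γ(S, V)] [IsLocalRing Γ(S, V)] [IsNoetherianRing Γ(X, U)]
    (F : X.Modules) [F.IsQuasicoherent] [Module.Finite Γ(X, U) Γ(F, U)] (x : X) (hx : x ∈ U)
    [IsLocalRing Γ(S', W)] (y₀ : pointsOver p q x U W)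
    (hy₀ : (hW.primeIdealOf ⟨pullback.snd p q y₀.1, y₀.2.1.2⟩).asIdeal =
      IsLocalRing.maximalIdeal Γ(S', W))
    (hprim : letI := (p.residueFieldMap x).hom.toAlgebra
      ∀ a : ↑(X.residueField x), IsSeparable ↑(S.residueField (p x)) a →
        a ∈ (p.residueFieldMap x).hom.range)
    (hflat : FlatMod.IsFlatOverAt (pullback.snd p q)
      ((Scheme.Modules.pullback (pullback.fst p q)).obj F) y₀.1) :
    letI := (p.appLE V U e₁).hom.toAlgebra
    letI := (q.appLE V W e₂).hom.toAlgebra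
    letI : Module Γ(S, V) Γ(F, U) := Module.compHom _ (p.appLE V U e₁).hom
    haveI : IsScalarTower Γ(S, V) Γ(X, U) Γ(F, U) := IsScalarTower.of_algebraMap_smul fun _ _ => rfl
    ∃ (κ : Type u) (N : κ → Type u) (_ : ∀ j, AddCommGroup (N j))
      (_ : ∀ j, Module Γ(S', W) (N j)) (_ : ∀ j, Module Γ(S, V) (N j))
      (_ : ∀ j, IsScalarTower Γ(S, V) Γ(S', W) (N j)) (_ : ∀ j, Module.Flat Γ(S', W) (N j))
      (ψ : ∀ j, LocalizedModule (hU.primeIdealOf ⟨x, hx⟩).asIdeal.primeCompl Γ(F, U)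
        →ₗ[Γ(S, V)] N j),
      ∀ (Q : Type u) [AddCommGroup Q] [Module Γ(S', W) Q] [Module Γ(S, V) Q]
        [IsScalarTower Γ(S, V) Γ(S', W) Q],
        (∀ a ∈ IsLocalRing.maximalIdeal Γ(S, V), ∀ e : Q, a • e = 0) →
        ∀ w : LocalizedModule (hU.primeIdealOf ⟨x, hx⟩).asIdeal.primeCompl Γ(F, U) ⊗[Γ(S, V)] Q,
          (∀ j, chi (A' := Γ(S', W)) (ψ j) w = 0) → w = 0 := by
  let pr := pullback.fst p q
  let P := prodOpen p q U W
  have eP : P ≤ pr ⁻¹ᵁ U := prodOpen_le p q U W
  have hP : IsAffineOpen P := isAffineOpen_prodOpen p q e₁ e₂ hV hW hU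
  let _ := (p.appLE V U e₁).hom.toAlgebra
  let _ := (q.appLE V W e₂).hom.toAlgebra
  let _ : Module Γ(S, V) Γ(F, U) := Module.compHom _ (p.appLE V U e₁).hom
  have : IsScalarTower Γ(S, V) Γ(X, U) Γ(F, U) := IsScalarTower.of_algebraMap_smul fun _ _ => rfl
  let _ := sectionsAlg pr eP
  let _ : Algebra Γ(S', W) Γ(pullback p q, P) :=
    ((pullback.snd p q).appLE W P inf_le_right).hom.toAlgebra
  let _ : Algebra Γ(S, V) Γ(pullback p q, P) :=
    ((p.appLE V U e₁) ≫ pr.appLE U P eP).hom.toAlgebra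
  have : IsScalarTower Γ(S, V) Γ(X, U) Γ(pullback p q, P) :=
    IsScalarTower.of_algebraMap_eq fun _ => rfl
  have hpush := (isIso_pushoutSection_iff (IsPullback.of_hasPullback p q)
    (US := V) (UT := W) (UX := U) (UY := P) e₂ e₁ rfl).1
    (isIso_pushoutSection_of_isAffineOpen (IsPullback.of_hasPullback p q) e₂ e₁ rfl hV hW hU)
  have : IsScalarTower Γ(S, V) Γ(S', W) Γ(pullback p q, P) :=
    IsScalarTower.of_algebraMap_eq fun r => congrArg (fun φ => φ.hom r) hpush.w
  have : Algebra.IsPushout Γ(S, V) Γ(X, U) Γ(S', W) Γ(pullback p q, P) :=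
    CommRingCat.isPushout_iff_isPushout.1 hpush
  have : Algebra.IsPushout Γ(S, V) Γ(S', W) Γ(X, U) Γ(pullback p q, P) :=
    Algebra.IsPushout.symm inferInstance
  let 𝔭 := (hU.primeIdealOf ⟨x, hx⟩).asIdeal
  let κ := {y : pointsOver p q x U W // y = y₀}
  let F' := (Scheme.Modules.pullback pr).obj F
  let N := fun y : κ => (F'.presheaf.stalk y.1.1 : Type u)
  letI : ∀ y : κ, Module Γ(pullback p q, P) (N y) := fun y => stalkModule F' y.1.1 y.1.2.1
  letI : ∀ y : κ, Module Γ(S', W) (N y) := fun y =>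
    Module.compHom _ (algebraMap Γ(S', W) Γ(pullback p q, P))
  letI : ∀ y : κ, Module Γ(S, V) (N y) := fun y =>
    Module.compHom _ (algebraMap Γ(S, V) Γ(pullback p q, P))
  letI : ∀ y : κ, Module Γ(X, U) (N y) := fun y =>
    Module.compHom _ (algebraMap Γ(X, U) Γ(pullback p q, P))
  have ht₁ : ∀ y : κ, IsScalarTower Γ(S', W) Γ(pullback p q, P) (N y) := fun y =>
    IsScalarTower.of_algebraMap_smul fun _ _ => rfl
  have ht₂ : ∀ y : κ, IsScalarTower Γ(S, V) Γ(S', W) (N y) := fun y =>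
    IsScalarTower.of_algebraMap_smul fun r v => by
      show algebraMap Γ(S', W) Γ(pullback p q, P) (algebraMap Γ(S, V) Γ(S', W) r) • v =
        algebraMap Γ(S, V) Γ(pullback p q, P) r • v
      rw [← IsScalarTower.algebraMap_apply]
  have ht₃ : ∀ y : κ, IsScalarTower Γ(X, U) Γ(pullback p q, P) (N y) := fun y =>
    IsScalarTower.of_algebraMap_smul fun _ _ => rfl
  have ht₄ : ∀ y : κ, IsScalarTower Γ(S, V) Γ(X, U) (N y) := fun y =>
    IsScalarTower.of_algebraMap_smul fun r v => by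
      show algebraMap Γ(X, U) Γ(pullback p q, P) (algebraMap Γ(S, V) Γ(X, U) r) • v =
        algebraMap Γ(S, V) Γ(pullback p q, P) r • v
      rw [← IsScalarTower.algebraMap_apply]
  let qy := fun y : κ => (hP.primeIdealOf ⟨y.1.1, y.1.2.1⟩).asIdeal
  let ν : ∀ y : κ, Γ(pullback p q, P) ⊗[Γ(X, U)] Γ(F, U) →ₗ[Γ(pullback p q, P)] N y := fun y =>
    germₗ F' y.1.1 y.1.2.1 ∘ₗ (pullSecEquiv pr F eP hU hP).toLinearMap
  have hν : ∀ y : κ, IsLocalizedModule (qy y).primeCompl (ν y) := fun y => by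
    have := isLocalizedModule_germ F' hP y.1.1 y.1.2.1
    exact IsLocalizedModule.of_linearEquiv_right _ _ _
  have hqx : ∀ y : κ, (qy y).comap (algebraMap Γ(X, U) Γ(pullback p q, P)) = 𝔭 := by
    intro y
    ext r
    refine not_iff_not.1 ?_
    rw [Ideal.mem_comap]
    change pr.appLE U P eP r ∉ qy y ↔ r ∉ 𝔭
    rw [← Groth.QCohMod.mem_basicOpen_iff_notMem_primeIdealOf hP _ y.1.1 y.1.2.1,
      ← Groth.QCohMod.mem_basicOpen_iff_notMem_primeIdealOf hU r x hx, Scheme.basicOpen_appLE]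
    simp only [← Scheme.preimage_basicOpen, TopologicalSpace.Opens.mem_inf]
    constructor
    · intro h
      rw [← y.1.2.2]
      exact h.2
    · intro h
      refine ⟨y.1.2.1, ?_⟩
      show pr y.1.1 ∈ X.basicOpen r
      rw [show pr y.1.1 = x from y.1.2.2]
      exact h
  let loc := LocalizedModule.mkLinearMap 𝔭.primeCompl Γ(F, U)
  let θ : ∀ y : κ, Γ(F, U) →ₗ[Γ(X, U)] N y := fun y =>
    ((ν y).restrictScalars Γ(X, U)) ∘ₗ TensorProduct.mk Γ(X, U) Γ(pullback p q, P) Γ(F, U) 1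
  have hunit : ∀ (y : κ) (s : 𝔭.primeCompl),
      IsUnit (algebraMap Γ(X, U) (Module.End Γ(X, U) (N y)) s) := by
    intro y s
    have := hν y
    have hs : algebraMap Γ(X, U) Γ(pullback p q, P) s.1 ∈ (qy y).primeCompl := fun h =>
      s.2 ((Ideal.ext_iff.1 (hqx y) s.1).1 h)
    have h1 := (Module.End.isUnit_iff _).1 (IsLocalizedModule.map_units (ν y)
      (⟨_, hs⟩ : (qy y).primeCompl))
    exact (Module.End.isUnit_iff _).2 h1
  let ψ₀ : ∀ y : κ, LocalizedModule 𝔭.primeCompl Γ(F, U) →ₗ[Γ(X, U)] N y := fun y =>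
    IsLocalizedModule.lift 𝔭.primeCompl loc (θ y) (hunit y)
  have : Module.Finite (Localization.AtPrime 𝔭) (LocalizedModule 𝔭.primeCompl Γ(F, U)) :=
    Module.Finite.of_isLocalizedModule 𝔭.primeCompl loc
  refine ⟨κ, N, inferInstance, inferInstance, inferInstance, ht₂, fun y => ?_,
    fun y => (ψ₀ y).restrictScalars Γ(S, V), fun Q _ _ _ _ hQ w hw => ?_⟩
  · -- flatness over `Γ(S', W)` from flatness over the local ring
    let _ := FlatMod.moduleStalkOver (pullback.snd p q) F' y.1.1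
    have hyW : pullback.snd p q y.1.1 ∈ W := y.1.2.1.2
    let _ := TopCat.Presheaf.algebra_section_stalk S'.presheaf ⟨pullback.snd p q y.1.1, hyW⟩
    have : IsScalarTower Γ(S', W) (S'.presheaf.stalk (pullback.snd p q y.1.1)) (N y) :=
      IsScalarTower.of_algebraMap_smul fun r v => by
        change (pullback.snd p q).stalkMap y.1.1 (S'.presheaf.germ W _ hyW r) • v =
          (pullback p q).presheaf.germ P y.1.1 y.1.2.1 ((pullback.snd p q).appLE W P inf_le_right r) • v
        rw [Scheme.Hom.germ_stalkMap_apply]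
        congr 1
        exact (TopCat.Presheaf.germ_res_apply (pullback p q).presheaf
          (homOfLE (inf_le_right : P ≤ _)) y.1.1 y.1.2.1 _).symm
    have := hW.isLocalization_stalk ⟨pullback.snd p q y.1.1, hyW⟩
    exact (Module.flat_iff_of_isLocalization (S'.presheaf.stalk (pullback.snd p q y.1.1))
      (hW.primeIdealOf ⟨pullback.snd p q y.1.1, hyW⟩).asIdeal.primeCompl (N y)).1 (y.2.symm ▸ hflat : FlatMod.IsFlatOverAt (pullback.snd p q) F' y.1.1)
  · refine detect_point (P := Γ(pullback p q, P)) 𝔭 ?_ loc (qy ⟨y₀, rfl⟩) (hqx ⟨y₀, rfl⟩) ?_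
      (ν ⟨y₀, rfl⟩) ((ψ₀ ⟨y₀, rfl⟩).restrictScalars Γ(S, V)) (fun r v => ?_) (fun m => ?_) hQ w
      (hw ⟨y₀, rfl⟩)
    · rintro z ⟨g, hgsep, hgz⟩
      let _ : Algebra Γ(X, U) (X.residueField x) := (X.evaluation U x hx).hom.toAlgebra
      have hev : ∀ r, X.evaluation U x hx r = 0 ↔ r ∈ 𝔭 := fun r => by
        rw [Scheme.evaluation_eq_zero_iff_notMem_basicOpen,
          Groth.QCohMod.mem_basicOpen_iff_notMem_primeIdealOf hU r x hx]
        exact not_not
      let σ : 𝔭.ResidueField →+* X.residueField x :=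
        Ideal.ResidueField.lift 𝔭 (X.evaluation U x hx).hom (fun r hr => (hev r).2 hr)
          (fun r hr => IsUnit.mk0 _ fun h => hr ((hev r).1 h))
      have hσ : ∀ r, σ (algebraMap Γ(X, U) 𝔭.ResidueField r) = X.evaluation U x hx r := fun r =>
        Ideal.ResidueField.lift_algebraMap ..
      have hxV : p x ∈ V := e₁ hx
      let ε : Γ(S, V) →+* S.residueField (p x) := (S.evaluation V (p x) hxV).hom
      have hnat : ∀ a : Γ(S, V), σ (algebraMap Γ(S, V) 𝔭.ResidueField a) =
          p.residueFieldMap x (ε a) := by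
        intro a
        rw [IsScalarTower.algebraMap_apply Γ(S, V) Γ(X, U) 𝔭.ResidueField, hσ]
        refine Eq.trans ?_ (Scheme.evaluation_naturality_apply p x hxV a).symm
        show X.evaluation U x hx (p.appLE V U e₁ a) = X.evaluation (p ⁻¹ᵁ V) x hxV (p.app V a)
        simp only [Scheme.evaluation, CommRingCat.comp_apply, Scheme.Hom.appLE]
        congr 1
        exact TopCat.Presheaf.germ_res_apply X.presheaf (homOfLE e₁) x hx _
      letI := (p.residueFieldMap x).hom.toAlgebra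
      have : (RingHom.ker ε).IsPrime := RingHom.ker_isPrime ε
      have hm : IsLocalRing.maximalIdeal Γ(S, V) ≤ RingHom.ker ε :=
        (IsLocalRing.eq_maximalIdeal (IsArtinianRing.isMaximal_of_isPrime (RingHom.ker ε))).ge
      let εk : (Γ(S, V) ⧸ IsLocalRing.maximalIdeal Γ(S, V)) →+* S.residueField (p x) :=
        Ideal.Quotient.lift _ ε hm
      have hsep : (g.map ε).Separable := by
        have := hgsep.map (f := εk)
        rwa [Polynomial.map_map, show εk.comp (Ideal.Quotient.mk _) = ε from RingHom.ext fun _ => rfl]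
          at this
      have hroot : Polynomial.aeval (σ z) (g.map ε) = 0 := by
        have hcomp : (algebraMap (S.residueField (p x)) (X.residueField x)).comp ε =
            σ.comp (algebraMap Γ(S, V) 𝔭.ResidueField) := RingHom.ext fun a => (hnat a).symm
        rw [Polynomial.aeval_def, Polynomial.eval₂_map, hcomp, ← Polynomial.hom_eval₂,
          ← Polynomial.aeval_def, hgz, map_zero]
      have hz : IsSeparable ↑(S.residueField (p x)) (σ z) :=
        hsep.of_dvd (minpoly.dvd _ _ hroot)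
      obtain ⟨b, hb⟩ := hprim (σ z) hz
      obtain ⟨b', hb'⟩ := Scheme.residue_surjective S (p x) b
      obtain ⟨a, ha⟩ : ∃ a, S.presheaf.germ V (p x) hxV a = b' := by
        let _ := TopCat.Presheaf.algebra_section_stalk S.presheaf ⟨p x, hxV⟩
        have := hV.isLocalization_stalk ⟨p x, hxV⟩
        obtain ⟨⟨a, s, hs⟩, has⟩ := IsLocalization.surj
          (hV.primeIdealOf ⟨p x, hxV⟩).asIdeal.primeCompl b'
        have hmax := IsLocalRing.eq_maximalIdeal
          (IsArtinianRing.isMaximal_of_isPrime (hV.primeIdealOf ⟨p x, hxV⟩).asIdeal)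
        have hsu : IsUnit s := by
          by_contra h
          exact hs (hmax.ge h)
        obtain ⟨v, rfl⟩ := hsu
        refine ⟨a * (v⁻¹ : _ˣ), ?_⟩
        have hv : IsUnit (S.presheaf.germ V (p x) hxV v) := v.isUnit.map _
        apply hv.mul_left_injective
        show S.presheaf.germ V (p x) hxV (a * (v⁻¹ : _ˣ)) * S.presheaf.germ V (p x) hxV v = b' * _
        rw [← map_mul, mul_assoc, Units.inv_mul, mul_one]
        exact has.symm
      refine ⟨a, σ.injective ?_⟩
      rw [hnat, ← hb, ← hb', ← ha]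
      rfl
    · ext c
      refine not_iff_not.1 ?_
      rw [Ideal.mem_comap]
      change (pullback.snd p q).appLE W P inf_le_right c ∉ qy ⟨y₀, rfl⟩ ↔ c ∉ IsLocalRing.maximalIdeal Γ(S', W)
      rw [← hy₀, ← Groth.QCohMod.mem_basicOpen_iff_notMem_primeIdealOf hP _ y₀.1 y₀.2.1,
        ← Groth.QCohMod.mem_basicOpen_iff_notMem_primeIdealOf hW c _ y₀.2.1.2, Scheme.basicOpen_appLE]
      simp only [← Scheme.preimage_basicOpen, TopologicalSpace.Opens.mem_inf]
      exact ⟨fun h => h.2, fun h => ⟨y₀.2.1, h⟩⟩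
    · show ψ₀ ⟨y₀, rfl⟩ (r • v) = _
      rw [map_smul]
      rfl
    · show ψ₀ ⟨y₀, rfl⟩ (loc m) = _
      exact IsLocalizedModule.lift_apply 𝔭.primeCompl loc (θ ⟨y₀, rfl⟩) (hunit ⟨y₀, rfl⟩) m

end Groth.EGA43Art
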